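import Cfsg.Agent.Lib.Helper60.BG14Defs

set_option autoImplicit false

namespace Cfsg.Agent.Lib.Helper60.BG14

open Subgroup Cfsg.Agent.Lib.Helper30

universe u

variable {G : Type u} [Group G]

/-- the product map `K × L → G` of two commuting subgroups. -/
private noncomputable def a1_phi {K L : Subgroup G} (comm : ∀ a ∈ K, ∀ b ∈ L, a * b = b * a) :
    K × L →* G :=
  MonoidHom.noncommCoprod K.subtype L.subtype
    (fun a b => (show Commute (K.subtype a) (L.subtype b) from comm a a.2 b b.2))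

theorem a1_mem_sup_iff {K L : Subgroup G} (comm : ∀ a ∈ K, ∀ b ∈ L, a * b = b * a) {z : G} :
    z ∈ K ⊔ L ↔ ∃ x ∈ K, ∃ y ∈ L, z = x * y := by
  have h1 : (a1_phi comm).range = K ⊔ L := by
    unfold a1_phi
    rw [MonoidHom.noncommCoprod_range, Subgroup.range_subtype, Subgroup.range_subtype]
  rw [← h1]
  constructor
  · rintro ⟨⟨a, b⟩, rfl⟩
    exact ⟨a, a.2, b, b.2, rfl⟩
  · rintro ⟨x, hx, y, hy, rfl⟩
    exact ⟨(⟨x, hx⟩, ⟨y, hy⟩), rfl⟩

theorem a1_card_sup {K L : Subgroup G} (comm : ∀ a ∈ K, ∀ b ∈ L, a * b = b * a)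
    (hd : K ⊓ L = ⊥) : Nat.card ↥(K ⊔ L) = Nat.card K * Nat.card L := by
  have h1 : (a1_phi comm).range = K ⊔ L := by
    unfold a1_phi
    rw [MonoidHom.noncommCoprod_range, Subgroup.range_subtype, Subgroup.range_subtype]
  have hinj : Function.Injective (a1_phi comm) := by
    unfold a1_phi
    rw [MonoidHom.noncommCoprod_injective]
    refine ⟨Subtype.val_injective, Subtype.val_injective, ?_⟩
    rw [Subgroup.range_subtype, Subgroup.range_subtype, disjoint_iff]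
    exact hd
  rw [← h1, ← Nat.card_prod]
  exact (Nat.card_congr (MonoidHom.ofInjective hinj).toEquiv).symm

/-- if `z = x y` has order prime to `#K` then `x = 1`. -/
theorem a1_left_eq_one {K L : Subgroup G} (cop : (Nat.card K).Coprime (Nat.card L))
    {x y : G} (hx : x ∈ K) (hy : y ∈ L) (hc : x * y = y * x)
    (ho : (orderOf (x * y)).Coprime (Nat.card K)) : x = 1 := by
  have hyL : y ^ Nat.card L = 1 := orderOf_dvd_iff_pow_eq_one.1 (L.orderOf_dvd_natCard hy)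
  have h1 : (x * y) ^ Nat.card L = x ^ Nat.card L := by
    rw [(show Commute x y from hc).mul_pow, hyL, mul_one]
  have h2 : orderOf (x ^ Nat.card L) ∣ orderOf (x * y) := by
    rw [← h1]; exact orderOf_pow_dvd _
  have h3 : orderOf (x ^ Nat.card L) ∣ Nat.card K := K.orderOf_dvd_natCard (K.pow_mem hx _)
  have h4 : orderOf (x ^ Nat.card L) ∣ 1 := by
    have := Nat.dvd_gcd h2 h3
    rwa [ho] at this
  have h5 : x ^ Nat.card L = 1 := orderOf_eq_one_iff.1 (Nat.dvd_one.1 h4)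
  have h6 : orderOf x ∣ Nat.card L := orderOf_dvd_iff_pow_eq_one.2 h5
  have h7 : orderOf x ∣ Nat.card K := K.orderOf_dvd_natCard hx
  have h8 : orderOf x ∣ 1 := by
    have := Nat.dvd_gcd h7 h6
    rwa [cop] at this
  exact orderOf_eq_one_iff.1 (Nat.dvd_one.1 h8)

namespace ZD

variable [Finite G] {M K L : Subgroup G}

theorem inf_eq_bot (h : ZD M K L) : K ⊓ L = ⊥ :=
  disjoint_iff.1 (Subgroup.disjoint_of_coprime_natCard h.cop)

theorem sup_le (h : ZD M K L) : K ⊔ L ≤ M := _root_.sup_le h.KM h.LM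

theorem card_sup (h : ZD M K L) : Nat.card ↥(K ⊔ L) = Nat.card K * Nat.card L :=
  a1_card_sup h.comm h.inf_eq_bot

theorem mem_sup_iff (h : ZD M K L) {z : G} : z ∈ K ⊔ L ↔ ∃ x ∈ K, ∃ y ∈ L, z = x * y :=
  a1_mem_sup_iff h.comm

theorem mem_Zh_iff (h : ZD M K L) {z : G} :
    z ∈ Zh K L ↔ ∃ x ∈ K, ∃ y ∈ L, x ≠ 1 ∧ y ≠ 1 ∧ z = x * y := by
  constructor
  · rintro ⟨hz, hn⟩
    obtain ⟨x, hx, y, hy, rfl⟩ := h.mem_sup_iff.1 hz
    refine ⟨x, hx, y, hy, ?_, ?_, rfl⟩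
    · rintro rfl
      exact hn (Or.inr (by simpa using hy))
    · rintro rfl
      exact hn (Or.inl (by simpa using hx))
  · rintro ⟨x, hx, y, hy, hx1, hy1, rfl⟩
    refine ⟨h.mem_sup_iff.2 ⟨x, hx, y, hy, rfl⟩, ?_⟩
    rintro (hK | hL)
    · have hyK : y ∈ K := by
        have := K.mul_mem (K.inv_mem hx) hK
        rwa [inv_mul_cancel_left] at this
      have : y ∈ K ⊓ L := ⟨hyK, hy⟩
      rw [h.inf_eq_bot] at this
      exact hy1 (Subgroup.mem_bot.1 this)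
    · have hxL : x ∈ L := by
        have := L.mul_mem hL (L.inv_mem hy)
        rwa [mul_inv_cancel_right] at this
      have : x ∈ K ⊓ L := ⟨hx, hxL⟩
      rw [h.inf_eq_bot] at this
      exact hx1 (Subgroup.mem_bot.1 this)

theorem mem_right (h : ZD M K L) {z : G} (hz : z ∈ K ⊔ L)
    (ho : (orderOf z).Coprime (Nat.card K)) : z ∈ L := by
  obtain ⟨x, hx, y, hy, rfl⟩ := h.mem_sup_iff.1 hz
  have := a1_left_eq_one h.cop hx hy (h.comm x hx y hy) ho
  rw [this, one_mul]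
  exact hy

theorem mem_left (h : ZD M K L) {z : G} (hz : z ∈ K ⊔ L)
    (ho : (orderOf z).Coprime (Nat.card L)) : z ∈ K := by
  obtain ⟨x, hx, y, hy, rfl⟩ := h.mem_sup_iff.1 hz
  rw [h.comm x hx y hy] at ho ⊢
  have := a1_left_eq_one h.cop.symm hy hx (h.comm x hx y hy).symm ho
  rw [this, one_mul]
  exact hx

theorem le_right (h : ZD M K L) {Y : Subgroup G} (hY : Y ≤ K ⊔ L)
    (ho : (Nat.card Y).Coprime (Nat.card K)) : Y ≤ L := fun z hz =>
  h.mem_right (hY hz) (Nat.Coprime.coprime_dvd_left (Y.orderOf_dvd_natCard hz) ho)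

theorem le_left (h : ZD M K L) {Y : Subgroup G} (hY : Y ≤ K ⊔ L)
    (ho : (Nat.card Y).Coprime (Nat.card L)) : Y ≤ K := fun z hz =>
  h.mem_left (hY hz) (Nat.Coprime.coprime_dvd_left (Y.orderOf_dvd_natCard hz) ho)

theorem le_or_le (h : ZD M K L) {X : Subgroup G} (hX : X ≤ K ⊔ L) (hp : (Nat.card X).Prime) :
    X ≤ K ∨ X ≤ L := by
  by_cases hd : Nat.card X ∣ Nat.card K
  · left
    apply h.le_left hX
    rw [Nat.Prime.coprime_iff_not_dvd hp]
    intro hd2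
    have := Nat.dvd_gcd hd hd2
    rw [h.cop] at this
    exact hp.one_lt.ne' (Nat.dvd_one.1 this)
  · right
    apply h.le_right hX
    rwa [Nat.Prime.coprime_iff_not_dvd hp]

theorem centralizer_le (h : ZD M K L) {y : G} (hy : y ∈ L) (hy1 : y ≠ 1) :
    centralizer ({y} : Set G) ≤ M := by
  intro c hc
  by_contra hcM
  have h1 := h.ti c hcM
  rw [mem_centralizer_singleton_iff] at hc
  have h2 : y ∈ L ⊓ M.map (MulAut.conj c).toMonoidHom := by
    refine ⟨hy, y, h.LM hy, ?_⟩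
    show c * y * c⁻¹ = y
    rw [hc, mul_inv_cancel_right]
  rw [h1] at h2
  exact hy1 (Subgroup.mem_bot.1 h2)

theorem normalizer_le (h : ZD M K L) {Y : Subgroup G} (hY : Y ≤ L) (hY1 : Y ≠ ⊥) :
    normalizer (Y : Set G) ≤ M := by
  intro g hg
  by_contra hgM
  have h1 := h.ti g hgM
  obtain ⟨y, hy, hy1⟩ : ∃ y ∈ Y, y ≠ 1 := by
    obtain ⟨y, hy⟩ := Subgroup.ne_bot_iff_exists_ne_one.1 hY1
    exact ⟨(y : G), y.2, fun h0 => hy (Subtype.ext h0)⟩
  have h2 : g * y * g⁻¹ ∈ L ⊓ M.map (MulAut.conj g).toMonoidHom :=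
    ⟨hY ((mem_normalizer_iff.1 hg y).1 hy), y, h.LM (hY hy), rfl⟩
  rw [h1] at h2
  have h3 := Subgroup.mem_bot.1 h2
  exact hy1 (conj_eq_one_iff.1 h3)

/-- the two components of an element of `K L` are powers of it. -/
theorem a1_mem_zpowers (h : ZD M K L) {x y : G} (hx : x ∈ K) (hy : y ∈ L) :
    x ∈ zpowers (x * y) ∧ y ∈ zpowers (x * y) := by
  have hc : Commute x y := h.comm x hx y hy
  have hcop : (orderOf x).Coprime (orderOf y) :=
    Nat.Coprime.coprime_dvd_left (K.orderOf_dvd_natCard hx)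
      (Nat.Coprime.coprime_dvd_right (L.orderOf_dvd_natCard hy) h.cop)
  exact ⟨Cfsg.Agent.Lib.Helper24.BG14.mem_zpowers_mul_left hc hcop,
    Cfsg.Agent.Lib.Helper24.BG14.mem_zpowers_mul_right hc hcop⟩

theorem centralizer_Zh_le (h : ZD M K L) {z : G} (hz : z ∈ Zh K L) :
    centralizer ({z} : Set G) ≤ K ⊔ L := by
  obtain ⟨x, hx, y, hy, hx1, hy1, rfl⟩ := h.mem_Zh_iff.1 hz
  intro c hc
  rw [mem_centralizer_singleton_iff] at hc
  obtain ⟨hxz, hyz⟩ := h.a1_mem_zpowers hx hy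
  have hcomm : ∀ w ∈ zpowers (x * y), c * w = w * c := by
    intro w hw
    obtain ⟨k, rfl⟩ := mem_zpowers_iff.1 hw
    exact ((show Commute c (x * y) from hc).zpow_right k)
  have hcM : c ∈ M := h.centralizer_le hy hy1 (mem_centralizer_singleton_iff.2 (hcomm y hyz))
  exact h.cent x hx hx1 ⟨hcM, mem_centralizer_singleton_iff.2 (hcomm x hxz)⟩

theorem mem_of_conj (h : ZD M K L) {z g : G} (hz : z ∈ Zh K L) (hg : g * z * g⁻¹ ∈ Zh K L) :
    g ∈ K ⊔ L := by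
  obtain ⟨x, hx, y, hy, hx1, hy1, rfl⟩ := h.mem_Zh_iff.1 hz
  obtain ⟨hxz, hyz⟩ := h.a1_mem_zpowers hx hy
  have hconj : ∀ w ∈ zpowers (x * y), g * w * g⁻¹ ∈ K ⊔ L := by
    intro w hw
    obtain ⟨k, rfl⟩ := mem_zpowers_iff.1 hw
    rw [← conj_zpow]
    exact (K ⊔ L).zpow_mem hg.1 k
  have hord : ∀ w : G, orderOf (g * w * g⁻¹) = orderOf w := fun w => by
    have := orderOf_injective (MulAut.conj g).toMonoidHom (MulAut.conj g).injective w
    simpa using this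
  have hyL : g * y * g⁻¹ ∈ L := by
    apply h.mem_right (hconj y hyz)
    rw [hord]
    exact Nat.Coprime.coprime_dvd_left (L.orderOf_dvd_natCard hy) h.cop.symm
  have hxK : g * x * g⁻¹ ∈ K := by
    apply h.mem_left (hconj x hxz)
    rw [hord]
    exact Nat.Coprime.coprime_dvd_left (K.orderOf_dvd_natCard hx) h.cop
  have hgM : g ∈ M := by
    by_contra hgM
    have h2 : g * y * g⁻¹ ∈ L ⊓ M.map (MulAut.conj g).toMonoidHom := ⟨hyL, y, h.LM hy, rfl⟩
    rw [h.ti g hgM] at h2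
    exact hy1 (conj_eq_one_iff.1 (Subgroup.mem_bot.1 h2))
  by_contra hgZ
  have h2 : g * x * g⁻¹ ∈ K ⊓ K.map (MulAut.conj g).toMonoidHom := ⟨hxK, x, hx, rfl⟩
  rw [h.tiK g hgM hgZ] at h2
  exact hx1 (conj_eq_one_iff.1 (Subgroup.mem_bot.1 h2))

theorem a1_conj_left (h : ZD M K L) {g w : G} (hg : g ∈ K ⊔ L) (hw : w ∈ K) :
    g * w * g⁻¹ ∈ K := by
  obtain ⟨a, ha, b, hb, rfl⟩ := h.mem_sup_iff.1 hg
  have h1 : a * b * w * (a * b)⁻¹ = a * w * a⁻¹ := by
    rw [mul_inv_rev, mul_assoc a b w, ← h.comm w hw b hb]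
    group
  rw [h1]
  exact K.mul_mem (K.mul_mem ha hw) (K.inv_mem ha)

theorem a1_conj_right (h : ZD M K L) {g w : G} (hg : g ∈ K ⊔ L) (hw : w ∈ L) :
    g * w * g⁻¹ ∈ L := by
  obtain ⟨a, ha, b, hb, rfl⟩ := h.mem_sup_iff.1 hg
  have hbw : b * w * b⁻¹ ∈ L := L.mul_mem (L.mul_mem hb hw) (L.inv_mem hb)
  have h1 : a * b * w * (a * b)⁻¹ = b * w * b⁻¹ := by
    have := h.comm a ha _ hbw
    calc a * b * w * (a * b)⁻¹ = (a * (b * w * b⁻¹)) * a⁻¹ := by group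
      _ = b * w * b⁻¹ := by rw [this, mul_inv_cancel_right]
  rw [h1]
  exact hbw

theorem conj_mem (h : ZD M K L) {z g : G} (hg : g ∈ K ⊔ L) (hz : z ∈ Zh K L) :
    g * z * g⁻¹ ∈ Zh K L := by
  refine ⟨(K ⊔ L).mul_mem ((K ⊔ L).mul_mem hg hz.1) ((K ⊔ L).inv_mem hg), ?_⟩
  have hback : g⁻¹ * (g * z * g⁻¹) * g⁻¹⁻¹ = z := by group
  rintro (hK | hL)
  · have := h.a1_conj_left ((K ⊔ L).inv_mem hg) hK
    rw [hback] at this
    exact hz.2 (Or.inl this)
  · have := h.a1_conj_right ((K ⊔ L).inv_mem hg) hL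
    rw [hback] at this
    exact hz.2 (Or.inr this)

theorem a1_Zh_nonempty (h : ZD M K L) : ∃ z, z ∈ Zh K L := by
  obtain ⟨x, hx⟩ := Subgroup.ne_bot_iff_exists_ne_one.1 h.K1
  obtain ⟨y, hy⟩ := Subgroup.ne_bot_iff_exists_ne_one.1 h.L1
  exact ⟨x * y, h.mem_Zh_iff.2 ⟨x, x.2, y, y.2, fun h0 => hx (Subtype.ext h0),
    fun h0 => hy (Subtype.ext h0), rfl⟩⟩

theorem normalizer_Zh (h : ZD M K L) : normalizer (Zh K L) = K ⊔ L := by
  apply le_antisymm
  · intro g hg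
    obtain ⟨z, hz⟩ := h.a1_Zh_nonempty
    exact h.mem_of_conj hz ((mem_set_normalizer_iff.1 hg z).1 hz)
  · intro g hg
    rw [mem_set_normalizer_iff]
    intro n
    refine ⟨fun hn => h.conj_mem hg hn, fun hn => ?_⟩
    have := h.conj_mem ((K ⊔ L).inv_mem hg) hn
    have hback : g⁻¹ * (g * n * g⁻¹) * g⁻¹⁻¹ = n := by group
    rwa [hback] at this

theorem isTI (h : ZD M K L) : Cfsg.IsTISubset (Zh K L) := by
  intro g hg x hx hgx
  rw [h.normalizer_Zh] at hg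
  exact absurd (h.mem_of_conj hx hgx) hg

theorem not_mem_conj (h : ZD M K L) {g z : G} (hg : g ∉ M) (hz : z ∈ Zh K L) :
    z ∉ M.map (MulAut.conj g).toMonoidHom := by
  intro hzM
  obtain ⟨x, hx, y, hy, hx1, hy1, rfl⟩ := h.mem_Zh_iff.1 hz
  obtain ⟨-, hyz⟩ := h.a1_mem_zpowers hx hy
  have h1 : y ∈ M.map (MulAut.conj g).toMonoidHom := (zpowers_le.2 hzM) hyz
  have h2 : y ∈ L ⊓ M.map (MulAut.conj g).toMonoidHom := ⟨hy, h1⟩
  rw [h.ti g hg] at h2
  exact hy1 (Subgroup.mem_bot.1 h2)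

end ZD

end Cfsg.Agent.Lib.Helper60.BG14
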