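import Cfsg.Agent.Lib.Helper60.BG14Defs

set_option autoImplicit false
set_option linter.unusedVariables false

/-! Ladder BG147, rung B1: a Hall `κ(H)`-subgroup gives `ZD`. -/

namespace Cfsg.Agent.Lib.Helper60.BG14

open Subgroup Cfsg.Agent.Lib.Helper30

universe u

variable {G : Type u} [Group G]

theorem b1_exists_prime_dvd [Finite G] {C : Subgroup G} (h : C ≠ ⊥) :
    ∃ p : ℕ, p.Prime ∧ p ∣ Nat.card C :=
  Nat.exists_prime_and_dvd (fun h1 => h (Subgroup.card_eq_one.1 h1))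

/-- a power of prime order. -/
theorem b1_exists_prime_pow [Finite G] {k : G} (hk : k ≠ 1) :
    ∃ c ∈ zpowers k, (orderOf c).Prime := by
  have h1 : orderOf k ≠ 1 := fun h => hk (orderOf_eq_one_iff.1 h)
  obtain ⟨p, hp, hpk⟩ := Nat.exists_prime_and_dvd h1
  refine ⟨k ^ (orderOf k / p), Subgroup.pow_mem _ (mem_zpowers k) _, ?_⟩
  rw [orderOf_pow_orderOf_div (orderOf_pos k).ne' hpk]
  exact hp

theorem PP.zd [Finite G] (hG : Cfsg.IsMinSimpleOddOrder G) (h30 : T1430 G) (h31 : T1431 G)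
    {H C : Subgroup G} (h : PP H C) : ZD H C (Ks H C) := by
  obtain ⟨a1, a2, a3⟩ := h30 H h.coatom C h.hall h.ne
  obtain ⟨b1, b2, b3, b4⟩ := h31 H h.coatom C h.hall h.ne
  refine ⟨h.hall.1, inf_le_left.trans (Cfsg.Agent.Lib.Helper28.BG12.sigmaCore_le H), h.ne, ?_, ?_, ?_,
    ?_, b2, b1⟩
  · -- `Ks H C ≠ ⊥`
    obtain ⟨p, hp, hpC⟩ := b1_exists_prime_dvd h.ne
    have : Fact p.Prime := ⟨hp⟩
    have hpκ : p ∈ Cfsg.kappa H := h.hall.2.1 p hp hpC
    obtain ⟨Q, hQ⟩ := exists_isSylowIn p C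
    have hQH : IsSylowIn p Q H := by
      refine ⟨hQ.le.trans h.hall.1, hQ.isPGroup, ?_⟩
      rw [← relIndex_mul_relIndex Q C H hQ.le h.hall.1, hp.dvd_mul]
      rintro (h1 | h1)
      · exact hQ.not_dvd h1
      · exact h.hall.2.2 p hp hpκ h1
    obtain ⟨P', hP'⟩ := hQH.exists_sylow
    obtain ⟨-, x, hxP, hx1, y, hy, hy1, hxy⟩ := hpκ.2.2.2 P'
    have hxC : (x : G) ∈ C := by
      apply hQ.le
      rw [← hP']
      exact ⟨x, hxP, rfl⟩
    have hx1' : (x : G) ≠ 1 := fun e => hx1 (Subtype.ext e)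
    intro hbot
    apply hy1
    have : y ∈ Cfsg.sigmaCore H ⊓ centralizer ({(x : G)} : Set G) := by
      refine mem_inf.mpr ⟨hy, ?_⟩
      rw [mem_centralizer_singleton_iff]
      exact hxy.symm
    rw [a1 x hxC hx1'] at this
    have h2 : y ∈ Ks H C := this
    rw [hbot, mem_bot] at h2
    exact h2
  · intro a ha b hb
    exact mem_centralizer_iff.1 (mem_inf.1 hb).2 a ha
  · apply Nat.coprime_of_dvd
    intro k hk h1 h2
    have h3 : k ∈ Cfsg.kappa H := h.hall.2.1 k hk h1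
    have h4 : k ∈ Cfsg.sigma H :=
      (Cfsg.Agent.Lib.Helper28.BG12.sigmaCore_hall hG h.coatom).2.1 k hk
        (h2.trans (Subgroup.card_dvd_of_le inf_le_left))
    exact h3.2.2.1 h4
  · intro k hk hk1
    obtain ⟨c, hc, hcp⟩ := b1_exists_prime_pow hk1
    have hX : zpowers c ≤ C := zpowers_le.2 (zpowers_le.2 hk hc)
    rw [← (a3 (zpowers c) hX (by rw [Nat.card_zpowers]; exact hcp)).1]
    apply inf_le_inf_left
    refine le_trans ?_ (centralizer_le_normalizer _)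
    intro g hg
    rw [mem_centralizer_singleton_iff] at hg
    rw [mem_centralizer_iff]
    intro a ha
    have ha' : a ∈ zpowers k := zpowers_le.2 hc ha
    obtain ⟨i, rfl⟩ := mem_zpowers_iff.1 ha'
    exact ((show Commute g k from hg).zpow_right i).eq.symm

end Cfsg.Agent.Lib.Helper60.BG14
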