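import Cfsg.Agent.Lib.Helper60.BG14Defs
import Cfsg.Agent.Lib.Helper60.BG147.A1
import Cfsg.Agent.Lib.Helper60.BG147.B1

set_option autoImplicit false
set_option linter.unusedVariables false

/-! Ladder BG147, rung B2. -/

namespace Cfsg.Agent.Lib.Helper60.BG14

open Subgroup Cfsg.Agent.Lib.Helper30

universe u

variable {G : Type u} [Group G]

theorem b2_exists_ne_one [Finite G] {X : Subgroup G} (h : X ≠ ⊥) : ∃ x ∈ X, x ≠ 1 := by
  by_contra hcon
  push Not at hcon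
  exact h ((eq_bot_iff_forall X).2 hcon)

theorem b2_ne_bot_of_prime [Finite G] {X : Subgroup G} (h : (Nat.card X).Prime) : X ≠ ⊥ := by
  intro e
  rw [e, card_bot] at h
  exact Nat.not_prime_one h

theorem kappa_of_Ks [Finite G] (hG : Cfsg.IsMinSimpleOddOrder G) (T : TX G) (h30 : T1430 G)
    (h31 : T1431 G) {M K : Subgroup G} (hP : PP M K) {X : Subgroup G} (hXK : X ≤ K)
    (hX : (Nat.card X).Prime) {H : Subgroup G} (hH : IsCoatom H)
    (hNH : normalizer (X : Set G) ≤ H) :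
    X ≤ Cfsg.sigmaCore H ∧ K ⊔ Ks M K ≤ H ∧ (∀ g : G, H ≠ cj g M) ∧
      ∀ p : ℕ, p.Prime → p ∣ Nat.card ↥(Ks M K) → p ∈ Cfsg.kappa H := by
  have hz := hP.zd hG h30 h31
  obtain ⟨a1, a2, a3⟩ := h30 M hP.coatom K hP.hall hP.ne
  obtain ⟨c1, c2, c3⟩ := a3 X hXK hX
  have hXσ : X ≤ Cfsg.sigmaCore H := c3 H hH hNH
  have hZH : K ⊔ Ks M K ≤ H := by
    have : K ⊔ Ks M K = M ⊓ normalizer (X : Set G) := c1.symm
    rw [this]
    exact inf_le_right.trans hNH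
  have hnc : ∀ g : G, H ≠ cj g M := by
    intro g hg
    have h1 : Nat.card X ∈ Cfsg.sigma H :=
      (Cfsg.Agent.Lib.Helper28.BG12.sigmaCore_hall hG hH).2.1 _ hX (Subgroup.card_dvd_of_le hXσ)
    have h2 : Nat.card X ∈ Cfsg.kappa M := hP.hall.2.1 _ hX (Subgroup.card_dvd_of_le hXK)
    rw [hg, Cfsg.Agent.Lib.Helper24.BG14.sigma_cj] at h1
    exact h2.2.2.1 h1
  refine ⟨hXσ, hZH, hnc, ?_⟩
  intro r hr hrL
  have : Fact r.Prime := ⟨hr⟩
  obtain ⟨x', hx'⟩ := exists_prime_orderOf_dvd_card' (G := Ks M K) r hrL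
  have hox' : orderOf (x' : G) = r := by rw [Subgroup.orderOf_coe]; exact hx'
  have hx'1 : (x' : G) ≠ 1 := by
    intro e
    rw [e, orderOf_one] at hox'
    exact hr.one_lt.ne hox'
  have hrσM : r ∈ Cfsg.sigma M :=
    (Cfsg.Agent.Lib.Helper28.BG12.sigmaCore_hall hG hP.coatom).2.1 r hr
      (hrL.trans (Subgroup.card_dvd_of_le inf_le_left))
  have hrσH : r ∉ Cfsg.sigma H :=
    Cfsg.Agent.Lib.Helper24.BG14.not_mem_sigma_of_nconj T.h78 hP.coatom hH hnc hrσM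
  obtain ⟨x, hxX, hx1⟩ := b2_exists_ne_one (b2_ne_bot_of_prime hX)
  have hmem : (x' : G) ∈ H ⊓ centralizer ({x} : Set G) := by
    refine mem_inf.mpr ⟨hZH (mem_sup_right x'.2), ?_⟩
    rw [mem_centralizer_singleton_iff]
    exact (hz.comm x (hXK hxX) x' x'.2).symm
  have hprimes : ∀ p : ℕ, p.Prime → p ∣ orderOf (x' : G) → p = r := by
    intro p hp hpd
    rw [hox'] at hpd
    exact (Nat.prime_dvd_prime_iff_eq hp hr).1 hpd
  rcases T.h32 H hH x (hXσ hxX) hx1 x' hmem hx'1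
    (fun p hp hpd => (hprimes p hp hpd) ▸ hrσH) with h | h
  · exact h.1 r hr (hox' ▸ dvd_rfl)
  · exfalso
    have h1 := h.2.2.2 M hP.coatom (hz.centralizer_le x'.2 hx'1)
    exact hnc 1 (by rw [cj_one, h1])

end Cfsg.Agent.Lib.Helper60.BG14
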