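import Cfsg.Agent.Lib.Helper60.BG14Defs
import Cfsg.Agent.Lib.Helper60.BG147.A1
import Cfsg.Agent.Lib.Helper60.BG147.B1
import Cfsg.Agent.Lib.Helper60.BG147.B2
import Cfsg.Agent.Lib.Helper12.Card

set_option autoImplicit false
set_option linter.unusedVariables false

/-! Ladder BG147, rung B3. -/

namespace Cfsg.Agent.Lib.Helper60.BG14

open Subgroup Cfsg.Agent.Lib.Helper30

universe u

variable {G : Type u} [Group G]

/-- a `π`-subgroup of `M` normalized by a Hall `π`-subgroup `K` of `M` lies in `K`. -/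
theorem b3_le_hall [Finite G] {π : Set ℕ} {M K A : Subgroup G} (hK : Cfsg.IsPiHallOf π K M)
    (hAM : A ≤ M) (hA : ∀ p : ℕ, p.Prime → p ∣ Nat.card A → p ∈ π)
    (hKA : K ≤ normalizer (A : Set G)) : A ≤ K := by
  have h1 := Cfsg.Agent.Lib.Helper12.card_sup_mul_card_inf' K A hKA
  have hπ : ∀ p : ℕ, p.Prime → p ∣ Nat.card (K ⊔ A : Subgroup G) → p ∈ π := by
    intro p hp hpd
    have h2 : p ∣ Nat.card K * Nat.card A := h1 ▸ Dvd.dvd.mul_right hpd _
    rcases hp.dvd_mul.1 h2 with h3 | h3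
    · exact hK.2.1 p hp h3
    · exact hA p hp h3
  have h2 := relIndex_mul_relIndex K (K ⊔ A) M le_sup_left (sup_le hK.1 hAM)
  have h3 : K.relIndex (K ⊔ A) = 1 := by
    by_contra hne
    obtain ⟨p, hp, hpd⟩ := Nat.exists_prime_and_dvd hne
    exact hK.2.2 p hp (hπ p hp (hpd.trans (relIndex_dvd_card K (K ⊔ A))))
      (h2 ▸ Dvd.dvd.mul_right hpd _)
  exact le_sup_right.trans (relIndex_eq_one.1 h3)

theorem att_of_prime [Finite G] (hG : Cfsg.IsMinSimpleOddOrder G) (T : TX G) (h30 : T1430 G)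
    (h31 : T1431 G) {M K : Subgroup G} (hP : PP M K) {X : Subgroup G} (hXK : X ≤ K)
    (hX : (Nat.card X).Prime) :
    ∃ H C A : Subgroup G, Att (K ⊔ Ks M K) H C A ∧ X ≤ A ∧ A ≤ K ∧ Ks M K ≤ C := by
  have hz := hP.zd hG h30 h31
  have hX1 : X ≠ ⊥ := b2_ne_bot_of_prime hX
  have hXtop : X ≠ ⊤ := by
    intro e
    apply hP.coatom.1
    rw [eq_top_iff, ← e]
    exact hXK.trans hz.KM
  obtain ⟨H, hH, hNH⟩ := Cfsg.Agent.Lib.Helper2.exists_coatom_ge
    (Cfsg.Agent.Lib.Helper30.normalizer_ne_top hG hX1 hXtop)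
  obtain ⟨hXσ, hZH, hnc, hLκ⟩ := kappa_of_Ks hG T h30 h31 hP hXK hX hH hNH
  have hLH : Ks M K ≤ H := le_sup_right.trans hZH
  have hKH : K ≤ H := le_sup_left.trans hZH
  obtain ⟨C, hC, -, hLC⟩ := Cfsg.Agent.Lib.Helper66.exists_invariant_isPiHallOf_ge
    (π := Cfsg.kappa H) (A := (⊥ : Subgroup G)) (G := H) (U := Ks M K) bot_le
    (by rw [card_bot]; exact Nat.coprime_one_left _) (hG.2.2.2 H hH.1) hLH bot_le hLκ
  have hC1 : C ≠ ⊥ := by
    intro e
    rw [e, le_bot_iff] at hLC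
    exact hz.L1 hLC
  have hPP : PP H C := ⟨hH, hC, hC1⟩
  have hz' := hPP.zd hG h30 h31
  obtain ⟨y₀, hy₀L, hy₀1⟩ := b2_exists_ne_one hz.L1
  obtain ⟨y, hy, hyp⟩ := b1_exists_prime_pow hy₀1
  have hyL : y ∈ Ks M K := zpowers_le.2 hy₀L hy
  have hy1 : y ≠ 1 := by
    intro e
    rw [e, orderOf_one] at hyp
    exact Nat.not_prime_one hyp
  have hyC : y ∈ C := hLC hyL
  obtain ⟨a1, a2, a3⟩ := h30 H hH C hC hC1
  have hA : Ks H C = Cfsg.sigmaCore H ⊓ centralizer ({y} : Set G) := (a1 y hyC hy1).symm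
  have hXA : X ≤ Ks H C := by
    rw [hA]
    refine le_inf hXσ ?_
    intro x hx
    rw [mem_centralizer_singleton_iff]
    exact hz.comm x (hXK hx) y hyL
  have hAM : Ks H C ≤ M := by
    rw [hA]
    exact inf_le_right.trans (hz.centralizer_le hyL hy1)
  have hY0L : zpowers y ≤ Ks M K := zpowers_le.2 hyL
  have hY01 : zpowers y ≠ ⊥ := by rwa [Ne, zpowers_eq_bot]
  have hNY : normalizer ((zpowers y : Subgroup G) : Set G) ≤ M := hz.normalizer_le hY0L hY01
  have hY0p : (Nat.card (zpowers y)).Prime := by rw [Nat.card_zpowers]; exact hyp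
  obtain ⟨-, -, -, hAκ⟩ := kappa_of_Ks hG T h30 h31 hPP (hY0L.trans hLC) hY0p hP.coatom hNY
  have hKA : K ≤ normalizer ((Ks H C : Subgroup G) : Set G) := by
    rw [hA]
    intro k hk
    have h1 : k ∈ normalizer (Cfsg.sigmaCore H : Set G) :=
      Cfsg.Agent.Lib.Helper28.BG12.le_normalizer_sigmaCore H (hKH hk)
    have hky : k * y = y * k := hz.comm k hk y hyL
    rw [mem_normalizer_iff] at h1 ⊢
    intro a
    rw [mem_inf, mem_inf, ← h1 a, mem_centralizer_singleton_iff, mem_centralizer_singleton_iff]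
    constructor
    · rintro ⟨e1, e2⟩
      refine ⟨e1, ?_⟩
      calc k * a * k⁻¹ * y = k * a * (k⁻¹ * y * k) * k⁻¹ := by group
        _ = k * a * (k⁻¹ * (k * y)) * k⁻¹ := by rw [hky]; group
        _ = k * (a * y) * k⁻¹ := by group
        _ = k * (y * a) * k⁻¹ := by rw [e2]
        _ = (k * y) * a * k⁻¹ := by group
        _ = y * (k * a * k⁻¹) := by rw [hky]; group
    · rintro ⟨e1, e2⟩
      refine ⟨e1, ?_⟩
      calc a * y = k⁻¹ * (k * a * k⁻¹ * (k * y)) := by group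
        _ = k⁻¹ * ((k * a * k⁻¹ * y) * k) := by rw [hky]; group
        _ = k⁻¹ * (y * (k * a * k⁻¹) * k) := by rw [e2]
        _ = k⁻¹ * (y * k) * a := by group
        _ = y * a := by rw [← hky]; group
  have hAK : Ks H C ≤ K := b3_le_hall hP.hall hAM hAκ hKA
  have hsupeq : H ⊓ normalizer ((zpowers y : Subgroup G) : Set G) = C ⊔ Ks H C :=
    (a3 (zpowers y) (hY0L.trans hLC) hY0p).1
  obtain ⟨x, hxX, hx1⟩ := b2_exists_ne_one hX1
  have hCZ : C ≤ K ⊔ Ks M K := by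
    refine le_trans ?_ (hz.cent x (hXK hxX) hx1)
    refine le_inf ?_ ?_
    · have : C ≤ C ⊔ Ks H C := le_sup_left
      rw [← hsupeq] at this
      exact this.trans (inf_le_right.trans hNY)
    · intro c hc
      rw [mem_centralizer_singleton_iff]
      exact hz'.comm c hc x (hXA hxX)
  refine ⟨H, C, Ks H C, ⟨hPP, rfl, ?_⟩, hXA, hAK, hLC⟩
  apply le_antisymm
  · exact sup_le hCZ (hAK.trans le_sup_left)
  · refine sup_le ?_ (hLC.trans le_sup_left)
    rw [← hsupeq]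
    refine le_inf hKH ?_
    refine le_trans ?_ (centralizer_le_normalizer _)
    intro k hk
    rw [mem_centralizer_iff]
    intro a ha
    obtain ⟨i, rfl⟩ := mem_zpowers_iff.1 ha
    exact ((show Commute k y from hz.comm k hk y hyL).zpow_right i).eq.symm

end Cfsg.Agent.Lib.Helper60.BG14
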