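import Cfsg.Agent.Lib.Helper60.BG14Defs
import Cfsg.Agent.Lib.Helper60.BG147.A1
import Cfsg.Agent.Lib.Helper60.BG147.B1
import Cfsg.Agent.Lib.Helper60.BG147.B3

set_option autoImplicit false
set_option linter.unusedVariables false
set_option linter.unusedSectionVars false

/-! Ladder BG147, rung B4: the attached family. -/

namespace Cfsg.Agent.Lib.Helper60.BG14

open Subgroup Cfsg.Agent.Lib.Helper30

universe u

variable {G : Type u} [Group G]

section
variable [Finite G] {Z H C A H' C' A' : Subgroup G}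

theorem Att.zd (hG : Cfsg.IsMinSimpleOddOrder G) (h30 : T1430 G) (h31 : T1431 G)
    (h : Att Z H C A) : ZD H C A := by
  rw [h.A_eq]
  exact h.pp.zd hG h30 h31

/-- a `σ(H)`-number is prime to `|C|`. -/
theorem b4_coprime (h : Att Z H C A) {n : ℕ}
    (hn : ∀ p : ℕ, p.Prime → p ∣ n → p ∈ Cfsg.sigma H) : n.Coprime (Nat.card C) := by
  apply Nat.coprime_of_dvd
  intro k hk h1 h2
  exact (h.pp.hall.2.1 k hk h2).2.2.1 (hn k hk h1)

theorem b4_sigma_of_dvd (hG : Cfsg.IsMinSimpleOddOrder G) (h : Att Z H C A) {Y : Subgroup G}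
    (hY : Y ≤ Cfsg.sigmaCore H) : ∀ p : ℕ, p.Prime → p ∣ Nat.card Y → p ∈ Cfsg.sigma H :=
  fun p hp hpd => (Cfsg.Agent.Lib.Helper28.BG12.sigmaCore_hall hG h.pp.coatom).2.1 p hp
    (hpd.trans (Subgroup.card_dvd_of_le hY))

theorem b4_A_le (h : Att Z H C A) : A ≤ Cfsg.sigmaCore H := by
  rw [h.A_eq]; exact inf_le_left

theorem Att.eq_inf (hG : Cfsg.IsMinSimpleOddOrder G) (h30 : T1430 G) (h31 : T1431 G)
    (h : Att Z H C A) : A = Z ⊓ Cfsg.sigmaCore H := by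
  have hz := h.zd hG h30 h31
  apply le_antisymm
  · exact le_inf (h.sup ▸ le_sup_right) (b4_A_le h)
  · apply hz.le_right
    · rw [h.sup]; exact inf_le_left
    · exact b4_coprime h (b4_sigma_of_dvd hG h inf_le_right)

theorem Att.eq_of_eq (hG : Cfsg.IsMinSimpleOddOrder G) (h30 : T1430 G) (h31 : T1431 G)
    (h : Att Z H C A) (h' : Att Z H C' A') : C' = C ∧ A' = A := by
  have hz := h.zd hG h30 h31
  have hz' := h'.zd hG h30 h31
  have hA : A' = A := by rw [h.eq_inf hG h30 h31, h'.eq_inf hG h30 h31]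
  refine ⟨?_, hA⟩
  apply le_antisymm
  · apply hz.le_left
    · rw [h.sup, ← h'.sup]; exact le_sup_left
    · rw [← hA]; exact hz'.cop
  · apply hz'.le_left
    · rw [h'.sup, ← h.sup]; exact le_sup_left
    · rw [hA]; exact hz.cop

theorem Att.unique (hG : Cfsg.IsMinSimpleOddOrder G) (T : TX G) (h30 : T1430 G) (h31 : T1431 G)
    (h : Att Z H C A) (h' : Att Z H' C' A') (hn : ¬ (Nat.card A).Coprime (Nat.card A')) :
    H' = H ∧ C' = C ∧ A' = A := by
  have hz := h.zd hG h30 h31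
  have hz' := h'.zd hG h30 h31
  obtain ⟨s, hs, hsA, hsA'⟩ := Nat.Prime.not_coprime_iff_dvd.1 hn
  have : Fact s.Prime := ⟨hs⟩
  have hsσ : s ∈ Cfsg.sigma H := b4_sigma_of_dvd hG h (b4_A_le h) s hs hsA
  have hsσ' : s ∈ Cfsg.sigma H' := b4_sigma_of_dvd hG h' (b4_A_le h') s hs hsA'
  obtain ⟨g, hg⟩ := T.h78 H H' h.pp.coatom h'.pp.coatom ⟨s, hsσ, hsσ'⟩
  obtain ⟨x, hx⟩ := exists_prime_orderOf_dvd_card' (G := A') s hsA'
  have hox : orderOf (x : G) = s := by rw [Subgroup.orderOf_coe]; exact hx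
  have hx1 : (x : G) ≠ 1 := by
    intro e
    rw [e, orderOf_one] at hox
    exact hs.one_lt.ne hox
  have hxA : (x : G) ∈ A := by
    apply hz.mem_right
    · rw [h.sup, ← h'.sup]; exact mem_sup_right x.2
    · rw [hox]
      apply b4_coprime h
      intro p hp hpd
      rw [(Nat.prime_dvd_prime_iff_eq hp hs).1 hpd]
      exact hsσ
  have hgH : g ∈ H := by
    by_contra hgH
    have h1 := hz.ti g hgH
    have h2 : (x : G) ∈ A ⊓ H.map (MulAut.conj g).toMonoidHom :=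
      mem_inf.mpr ⟨hxA, hg ▸ hz'.LM x.2⟩
    rw [h1, mem_bot] at h2
    exact hx1 h2
  have hHH : H' = H := by
    rw [hg]
    exact cj_eq_of_mem hgH
  subst hHH
  exact ⟨rfl, h.eq_of_eq hG h30 h31 h'⟩

theorem Att.eq_of_conj (hG : Cfsg.IsMinSimpleOddOrder G) (T : TX G) (h30 : T1430 G)
    (h31 : T1431 G) (h : Att Z H C A) (h' : Att Z H' C' A') (g : G) (hg : H' = cj g H) :
    H' = H ∧ C' = C ∧ A' = A := by
  have hz := h.zd hG h30 h31
  have hz' := h'.zd hG h30 h31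
  have hσ : Cfsg.sigma H' = Cfsg.sigma H := by
    rw [hg]; exact Cfsg.Agent.Lib.Helper24.BG14.sigma_cj H g
  have hAZ : A ≤ Z := h.sup ▸ le_sup_right
  have hZH' : Z ≤ H' := h'.sup ▸ hz'.sup_le
  have hAA' : A ≤ A' := by
    rw [h'.eq_inf hG h30 h31]
    refine le_inf hAZ ?_
    intro a ha
    apply Cfsg.Agent.Lib.Helper24.BG14.mem_sigmaCore_of_order hG h'.pp.coatom (hZH' (hAZ ha))
    intro p hp hpd
    rw [hσ]
    exact b4_sigma_of_dvd hG h (b4_A_le h) p hp (hpd.trans (Subgroup.orderOf_dvd_natCard A ha))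
  apply h.unique hG T h30 h31 h'
  intro hcop
  have h1 : Nat.card A ∣ Nat.card A' := Subgroup.card_dvd_of_le hAA'
  have h2 : Nat.card A = 1 := Nat.Coprime.eq_one_of_dvd hcop h1
  exact hz.L1 (Subgroup.card_eq_one.1 h2)

theorem Att.cover (hG : Cfsg.IsMinSimpleOddOrder G) (T : TX G) (h30 : T1430 G) (h31 : T1431 G)
    (h : Att Z H C A) {X : Subgroup G} (hXZ : X ≤ Z) (hX : (Nat.card X).Prime) :
    ∃ H' C' A' : Subgroup G, Att Z H' C' A' ∧ X ≤ A' := by
  have hz := h.zd hG h30 h31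
  rcases hz.le_or_le (h.sup.symm ▸ hXZ) hX with h1 | h1
  · obtain ⟨H', C', A', hatt, hXA', -, -⟩ := att_of_prime hG T h30 h31 h.pp h1 hX
    rw [← h.A_eq, h.sup] at hatt
    exact ⟨H', C', A', hatt, hXA'⟩
  · exact ⟨H, C, A, h, h1⟩

theorem Att.three_mul_le (hG : Cfsg.IsMinSimpleOddOrder G) (h30 : T1430 G) (h31 : T1431 G)
    (h : Att Z H C A) : 3 * Nat.card A ≤ Nat.card (Cfsg.sigmaCore H) := by
  have hz := h.zd hG h30 h31
  have hle := b4_A_le h
  have hne : A ≠ Cfsg.sigmaCore H := by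
    intro e
    obtain ⟨p, hp, hpA⟩ := b1_exists_prime_dvd hz.L1
    have : Fact p.Prime := ⟨hp⟩
    obtain ⟨S⟩ : Nonempty (Sylow p ↥(Cfsg.sigmaCore H)) := inferInstance
    have hpA' : p ∣ Nat.card ↥(Cfsg.sigmaCore H ⊓ centralizer (C : Set G)) := by
      have e1 : A = Cfsg.sigmaCore H ⊓ centralizer (C : Set G) := h.A_eq
      rw [← e1]; exact hpA
    have h1 := ((h31 H h.pp.coatom C h.pp.hall h.pp.ne).2.2.1 p hp hpA' S).2.2
    apply h1
    have h2 : Cfsg.sigmaCore H ⊓ centralizer (C : Set G) = Cfsg.sigmaCore H :=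
      h.A_eq.symm.trans e
    rw [h2]
    exact map_subtype_le _
  have h1 := card_eq_card_mul_relIndex hle
  have h2 : A.relIndex (Cfsg.sigmaCore H) ≠ 1 := by
    intro e
    exact hne (le_antisymm hle (relIndex_eq_one.1 e))
  have h3 : Odd (A.relIndex (Cfsg.sigmaCore H)) := by
    apply Odd.of_dvd_nat hG.1
    exact (relIndex_dvd_card _ _).trans (Subgroup.card_subgroup_dvd_card _)
  have h4 : 3 ≤ A.relIndex (Cfsg.sigmaCore H) := by
    obtain ⟨k, hk⟩ := h3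
    omega
  rw [h1, mul_comm]
  exact Nat.mul_le_mul_left _ h4

theorem Att.two_le (hG : Cfsg.IsMinSimpleOddOrder G) (T : TX G) (h30 : T1430 G) (h31 : T1431 G)
    (h : Att Z H C A) : 2 ≤ (attSet Z).card := by
  have hz := h.zd hG h30 h31
  obtain ⟨c₀, hc₀, hc₀1⟩ := b2_exists_ne_one hz.K1
  obtain ⟨c, hc, hcp⟩ := b1_exists_prime_pow hc₀1
  have hcC : c ∈ C := zpowers_le.2 hc₀ hc
  have hc1 : c ≠ 1 := by
    intro e
    rw [e, orderOf_one] at hcp
    exact Nat.not_prime_one hcp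
  obtain ⟨H', C', A', hatt, hXA'⟩ := h.cover hG T h30 h31 (X := zpowers c)
    (zpowers_le.2 (h.sup ▸ mem_sup_left hcC)) (by rw [Nat.card_zpowers]; exact hcp)
  apply Finset.one_lt_card.2
  refine ⟨A, mem_attSet.2 ⟨H, C, h⟩, A', mem_attSet.2 ⟨H', C', hatt⟩, ?_⟩
  intro e
  have h1 : c ∈ C ⊓ A := mem_inf.mpr ⟨hcC, e ▸ hXA' (mem_zpowers c)⟩
  rw [hz.inf_eq_bot, mem_bot] at h1
  exact hc1 h1

end

end Cfsg.Agent.Lib.Helper60.BG14
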