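import Cfsg.Agent.Lib.Helper60.BG14Defs
import Cfsg.Agent.Lib.Helper60.BG147.A1

set_option autoImplicit false

namespace Cfsg.Agent.Lib.Helper60.BG14

open Subgroup Cfsg.Agent.Lib.Helper30

universe u

variable {G : Type u} [Group G]

theorem ncard_CS_of_TI [Finite G] {X : Set G} {Z : Subgroup G}
    (h1 : ∀ z ∈ X, ∀ g : G, g * z * g⁻¹ ∈ X → g ∈ Z)
    (h2 : ∀ g ∈ Z, ∀ z ∈ X, g * z * g⁻¹ ∈ X) :
    Nat.card Z * (CS X).ncard = Nat.card G * X.ncard := by
  classical
  have hex : ∀ a : ↥(CS X), ∃ p : G × G, p.2 ∈ X ∧ (a : G) = p.1 * p.2 * p.1⁻¹ := by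
    rintro ⟨a, g, z, hz, rfl⟩
    exact ⟨(g, z), hz, rfl⟩
  choose p hpX hpa using hex
  let F : Z × ↥(CS X) → G × ↥X := fun ua =>
    ((p ua.2).1 * (ua.1 : G)⁻¹,
      ⟨(ua.1 : G) * (p ua.2).2 * (ua.1 : G)⁻¹, h2 _ ua.1.2 _ (hpX ua.2)⟩)
  have hval : ∀ ua, (F ua).1 * ((F ua).2 : G) * (F ua).1⁻¹ = (ua.2 : G) := by
    intro ua
    rw [hpa ua.2]
    simp only [F]
    group
  have hbij : Function.Bijective F := by
    constructor
    · rintro ⟨u, a⟩ ⟨u', a'⟩ h
      have ha : a = a' := by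
        apply Subtype.ext
        have e1 := hval (u, a)
        have e2 := hval (u', a')
        rw [h] at e1
        exact e1.symm.trans e2
      subst ha
      have h1' := congrArg Prod.fst h
      simp only [F] at h1'
      have : (u : G) = u' := inv_injective (mul_left_cancel h1')
      rw [Subtype.ext this]
    · rintro ⟨g, z, hz⟩
      have ha : g * z * g⁻¹ ∈ CS X := ⟨g, z, hz, rfl⟩
      obtain ⟨a, haa⟩ : ∃ a : ↥(CS X), (a : G) = g * z * g⁻¹ := ⟨⟨_, ha⟩, rfl⟩
      have e := hpa a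
      rw [haa] at e
      have e' : (p a).2 = (p a).1⁻¹ * (g * z * g⁻¹) * (p a).1 := by
        rw [e]; group
      have hu : (p a).1⁻¹ * g ∈ Z := by
        apply h1 z hz
        have : (p a).1⁻¹ * g * z * ((p a).1⁻¹ * g)⁻¹ = (p a).2 := by
          rw [e']; group
        rw [this]
        exact hpX a
      refine ⟨(⟨((p a).1⁻¹ * g)⁻¹, Z.inv_mem hu⟩, a), ?_⟩
      apply Prod.ext
      · simp [F]
      · apply Subtype.ext
        simp only [F]
        rw [e']
        group
  have := Nat.card_congr (Equiv.ofBijective F hbij)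
  rw [Nat.card_prod, Nat.card_prod] at this
  exact this

theorem ZD.ncard_Zh [Finite G] {M K L : Subgroup G} (h : ZD M K L) :
    (Zh K L).ncard = (Nat.card K - 1) * (Nat.card L - 1) := by
  have hsub : ((K : Set G) ∪ ↑L) ⊆ (↑(K ⊔ L) : Set G) := by
    rintro x (hx | hx)
    · exact (le_sup_left : K ≤ K ⊔ L) hx
    · exact (le_sup_right : L ≤ K ⊔ L) hx
  have e1 := Set.ncard_sdiff_add_ncard_of_subset hsub (Set.toFinite _)
  have e2 := Set.ncard_union_add_ncard_inter (K : Set G) (L : Set G) (Set.toFinite _)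
    (Set.toFinite _)
  have e3 : ((K : Set G) ∩ ↑L) = {1} := by
    rw [← Subgroup.coe_inf, h.inf_eq_bot, Subgroup.coe_bot]
  rw [e3, Set.ncard_singleton] at e2
  have e4 : (↑(K ⊔ L) : Set G).ncard = Nat.card K * Nat.card L := h.card_sup
  have e5 : (K : Set G).ncard = Nat.card K := rfl
  have e6 : (L : Set G).ncard = Nat.card L := rfl
  rw [e4] at e1
  rw [e5, e6] at e2
  obtain ⟨k, hk⟩ : ∃ k, Nat.card K = k + 1 := ⟨Nat.card K - 1, by have := Nat.card_pos (α := K); omega⟩
  obtain ⟨l, hl⟩ : ∃ l, Nat.card L = l + 1 := ⟨Nat.card L - 1, by have := Nat.card_pos (α := L); omega⟩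
  rw [hk, hl] at e1 e2 ⊢
  have e7 : (k + 1) * (l + 1) = k * l + k + l + 1 := by ring
  simp only [Nat.add_sub_cancel]
  show ((↑(K ⊔ L) : Set G) \ ((K : Set G) ∪ ↑L)).ncard = k * l
  omega

theorem ZD.ncard_CS [Finite G] {M K L : Subgroup G} (h : ZD M K L) :
    Nat.card K * Nat.card L * (CS (Zh K L)).ncard =
      (Nat.card K * Nat.card L - Nat.card K - Nat.card L + 1) * Nat.card G := by
  have e1 := ncard_CS_of_TI (X := Zh K L) (Z := K ⊔ L) (fun z hz g hg => h.mem_of_conj hz hg)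
    (fun g hg z hz => h.conj_mem hg hz)
  rw [h.card_sup, h.ncard_Zh] at e1
  have e8 : (Nat.card K - 1) * (Nat.card L - 1) =
      Nat.card K * Nat.card L - Nat.card K - Nat.card L + 1 := by
    obtain ⟨k, hk⟩ : ∃ k, Nat.card K = k + 1 :=
      ⟨Nat.card K - 1, by have := Nat.card_pos (α := K); omega⟩
    obtain ⟨l, hl⟩ : ∃ l, Nat.card L = l + 1 :=
      ⟨Nat.card L - 1, by have := Nat.card_pos (α := L); omega⟩
    have hk1 : 0 < k := by
      rcases Nat.eq_zero_or_pos k with h0 | h0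
      · exact absurd (Subgroup.card_eq_one.1 (by rw [hk, h0])) h.K1
      · exact h0
    have hl1 : 0 < l := by
      rcases Nat.eq_zero_or_pos l with h0 | h0
      · exact absurd (Subgroup.card_eq_one.1 (by rw [hl, h0])) h.L1
      · exact h0
    have hkl : 0 < k * l := Nat.mul_pos hk1 hl1
    rw [hk, hl]
    have e7 : (k + 1) * (l + 1) = k * l + k + l + 1 := by ring
    simp only [Nat.add_sub_cancel]
    omega
  rw [e1, e8, mul_comm]

theorem ZD.half_lt [Finite G] {M K L : Subgroup G} (h : ZD M K L) (hodd : Odd (Nat.card G)) :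
    Nat.card G < 2 * (CS (Zh K L)).ncard := by
  have e1 := h.ncard_CS
  obtain ⟨a, ha⟩ := Odd.of_dvd_nat hodd (Subgroup.card_subgroup_dvd_card K)
  obtain ⟨b, hb⟩ := Odd.of_dvd_nat hodd (Subgroup.card_subgroup_dvd_card L)
  have ha1 : 1 ≤ a := by
    by_contra hc
    have : Nat.card K = 1 := by omega
    exact h.K1 (Subgroup.card_eq_one.1 this)
  have hb1 : 1 ≤ b := by
    by_contra hc
    have : Nat.card L = 1 := by omega
    exact h.L1 (Subgroup.card_eq_one.1 this)
  have hab : a ≠ b := by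
    rintro rfl
    have hc := h.cop
    rw [ha, hb, Nat.coprime_self] at hc
    omega
  have key : 2 * a + 2 * b + 1 < 4 * (a * b) := by
    rcases lt_or_gt_of_ne hab with hlt | hlt
    · have h1 : b ≤ a * b := Nat.le_mul_of_pos_left b ha1
      have h2 : a * 2 ≤ a * b := Nat.mul_le_mul_left a (by omega)
      omega
    · have h1 : a ≤ a * b := Nat.le_mul_of_pos_right a hb1
      have h2 : 2 * b ≤ a * b := Nat.mul_le_mul_right b (by omega)
      omega
  rw [ha, hb] at e1
  have e2 : (2 * a + 1) * (2 * b + 1) = 4 * (a * b) + 2 * a + 2 * b + 1 := by ring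
  have e3 : (2 * a + 1) * (2 * b + 1) - (2 * a + 1) - (2 * b + 1) + 1 = 4 * (a * b) := by
    rw [e2]; omega
  rw [e3] at e1
  have hg : 0 < Nat.card G := Nat.card_pos
  have e4 : (2 * a + 1) * (2 * b + 1) * Nat.card G <
      (2 * a + 1) * (2 * b + 1) * (2 * (CS (Zh K L)).ncard) := by
    calc (2 * a + 1) * (2 * b + 1) * Nat.card G < (2 * (4 * (a * b))) * Nat.card G := by
          apply Nat.mul_lt_mul_of_pos_right _ hg
          rw [e2]; omega
      _ = 2 * (4 * (a * b) * Nat.card G) := by ring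
      _ = 2 * ((2 * a + 1) * (2 * b + 1) * (CS (Zh K L)).ncard) := by rw [e1]
      _ = _ := by ring
  exact Nat.lt_of_mul_lt_mul_left e4

end Cfsg.Agent.Lib.Helper60.BG14
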