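import Cfsg.Agent.Lib.Helper60.BG14Defs

set_option autoImplicit false

namespace Cfsg.Agent.Lib.Helper60.BG14

open Subgroup Cfsg.Agent.Lib.Helper30

universe u

variable {G : Type u} [Group G]

private theorem a3_aux [Finite G] (s : Finset (Subgroup G))
    (hd : ∀ A ∈ s, ∀ B ∈ s, A ≠ B → A ⊓ B = ⊥) :
    (({1} : Set G) ∪ ⋃ A ∈ s, (A : Set G)).ncard = 1 + ∑ A ∈ s, (Nat.card A - 1) := by
  classical
  induction s using Finset.induction_on with
  | empty => simp
  | insert B s hB ih =>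
    have ih' := ih (fun A hA C hC =>
      hd A (Finset.mem_insert_of_mem hA) C (Finset.mem_insert_of_mem hC))
    rw [Finset.sum_insert hB]
    have hset : (({1} : Set G) ∪ ⋃ A ∈ insert B s, (A : Set G)) =
        (({1} : Set G) ∪ ⋃ A ∈ s, (A : Set G)) ∪ ((B : Set G) \ {1}) := by
      ext x
      simp only [Finset.mem_insert, Set.mem_union, Set.mem_iUnion, Set.mem_singleton_iff,
        Set.mem_sdiff, SetLike.mem_coe, exists_prop]
      constructor
      · rintro (h | ⟨A, rfl | hA, hx⟩)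
        · exact Or.inl (Or.inl h)
        · by_cases hx1 : x = 1
          · exact Or.inl (Or.inl hx1)
          · exact Or.inr ⟨hx, hx1⟩
        · exact Or.inl (Or.inr ⟨A, hA, hx⟩)
      · rintro ((h | ⟨A, hA, hx⟩) | ⟨hx, -⟩)
        · exact Or.inl h
        · exact Or.inr ⟨A, Or.inr hA, hx⟩
        · exact Or.inr ⟨B, Or.inl rfl, hx⟩
    have hdisj : Disjoint (({1} : Set G) ∪ ⋃ A ∈ s, (A : Set G)) ((B : Set G) \ {1}) := by
      rw [Set.disjoint_left]
      intro x hx hxB
      simp only [Set.mem_union, Set.mem_iUnion, Set.mem_singleton_iff, SetLike.mem_coe,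
        exists_prop] at hx
      rcases hx with h | ⟨A, hA, hx⟩
      · exact hxB.2 h
      · have hne : A ≠ B := by
          rintro rfl
          exact hB hA
        have h1 : x ∈ A ⊓ B := ⟨hx, hxB.1⟩
        rw [hd A (Finset.mem_insert_of_mem hA) B (Finset.mem_insert_self B s) hne] at h1
        exact hxB.2 (Subgroup.mem_bot.1 h1)
    rw [hset, Set.ncard_union_eq hdisj (Set.toFinite _) (Set.toFinite _), ih',
      Set.ncard_sdiff_singleton_of_mem (show (1 : G) ∈ (B : Set G) from B.one_mem)]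
    have : (B : Set G).ncard = Nat.card B := rfl
    rw [this]
    omega

theorem ncard_diff_biUnion [Finite G] (Z : Subgroup G) (s : Finset (Subgroup G)) (hs : s.Nonempty)
    (hle : ∀ A ∈ s, A ≤ Z) (hd : ∀ A ∈ s, ∀ B ∈ s, A ≠ B → A ⊓ B = ⊥) :
    ((Z : Set G) \ ⋃ A ∈ s, (A : Set G)).ncard + 1 + ∑ A ∈ s, (Nat.card A - 1) = Nat.card Z := by
  have h1 := a3_aux s hd
  have h2 : (({1} : Set G) ∪ ⋃ A ∈ s, (A : Set G)) = ⋃ A ∈ s, (A : Set G) := by
    apply Set.union_eq_self_of_subset_left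
    obtain ⟨A, hA⟩ := hs
    intro x hx
    rw [Set.mem_singleton_iff] at hx
    subst hx
    simp only [Set.mem_iUnion, SetLike.mem_coe, exists_prop]
    exact ⟨A, hA, A.one_mem⟩
  rw [h2] at h1
  have h3 : (⋃ A ∈ s, (A : Set G)) ⊆ (Z : Set G) := by
    intro x hx
    simp only [Set.mem_iUnion, SetLike.mem_coe, exists_prop] at hx
    obtain ⟨A, hA, hx⟩ := hx
    exact hle A hA hx
  have h4 := Set.ncard_sdiff_add_ncard_of_subset h3 (Set.toFinite _)
  have h5 : (Z : Set G).ncard = Nat.card Z := rfl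
  omega

theorem ncard_add_sum_le [Finite G] {ι : Type*} (s : Finset ι) (S0 : Set G) (f : ι → Set G)
    (h0 : ∀ i ∈ s, S0 ∩ f i = ∅) (hd : ∀ i ∈ s, ∀ j ∈ s, i ≠ j → f i ∩ f j = ∅) :
    S0.ncard + ∑ i ∈ s, (f i).ncard ≤ Nat.card G := by
  classical
  have key : S0.ncard + ∑ i ∈ s, (f i).ncard = (S0 ∪ ⋃ i ∈ s, f i).ncard := by
    induction s using Finset.induction_on with
    | empty => simp
    | insert b s hb ih =>
      have ih' := ih (fun i hi => h0 i (Finset.mem_insert_of_mem hi)) (fun i hi j hj =>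
        hd i (Finset.mem_insert_of_mem hi) j (Finset.mem_insert_of_mem hj))
      rw [Finset.sum_insert hb]
      have hset : (S0 ∪ ⋃ i ∈ insert b s, f i) = (S0 ∪ ⋃ i ∈ s, f i) ∪ f b := by
        rw [Finset.set_biUnion_insert, Set.union_assoc, Set.union_comm (f b)]
      have hdisj : Disjoint (S0 ∪ ⋃ i ∈ s, f i) (f b) := by
        rw [Set.disjoint_left]
        intro x hx hxb
        simp only [Set.mem_union, Set.mem_iUnion, exists_prop] at hx
        rcases hx with h | ⟨i, hi, hx⟩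
        · have : x ∈ S0 ∩ f b := ⟨h, hxb⟩
          rw [h0 b (Finset.mem_insert_self b s)] at this
          exact this
        · have hne : i ≠ b := by
            rintro rfl
            exact hb hi
          have : x ∈ f i ∩ f b := ⟨hx, hxb⟩
          rw [hd i (Finset.mem_insert_of_mem hi) b (Finset.mem_insert_self b s) hne] at this
          exact this
      rw [hset, Set.ncard_union_eq hdisj (Set.toFinite _) (Set.toFinite _), ← ih']
      omega
  rw [key]
  exact Set.ncard_le_card _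

theorem count_abs {ι : Type*} (s : Finset ι) (hs : 2 ≤ s.card) (g z zo cs : ℕ)
    (a c h t idx : ι → ℕ) (hg : 0 < g)
    (hz : zo + 1 + ∑ i ∈ s, (a i - 1) = z) (hcs : z * cs = g * zo)
    (ht : ∀ i ∈ s, t i = (h i - 1) * idx i) (hidx : ∀ i ∈ s, idx i * (c i * h i) = g)
    (hca : ∀ i ∈ s, c i * a i = z) (h3 : ∀ i ∈ s, 3 * a i ≤ h i) (ha : ∀ i ∈ s, 1 ≤ a i)
    (hsum : cs + ∑ i ∈ s, t i ≤ g) : False := by
  have hA : ∑ i ∈ s, (a i - 1) + s.card = ∑ i ∈ s, a i := by
    rw [Finset.card_eq_sum_ones, ← Finset.sum_add_distrib]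
    apply Finset.sum_congr rfl
    intro i hi
    have := ha i hi
    omega
  have hone : ∀ i ∈ s, g * (3 * a i) ≤ 3 * z * t i + g := by
    intro i hi
    obtain ⟨h', hh'⟩ : ∃ h', h i = h' + 1 := ⟨h i - 1, by have := ha i hi; have := h3 i hi; omega⟩
    have e1 : t i = h' * idx i := by rw [ht i hi, hh']; simp
    have e2 : g = idx i * (c i * (h' + 1)) := by rw [← hidx i hi, hh']
    have e3 : z = c i * a i := (hca i hi).symm
    have e4 : 3 * a i ≤ h' + 1 := by rw [← hh']; exact h3 i hi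
    have e5 : idx i * c i * (3 * a i) ≤ idx i * c i * (h' + 1) := Nat.mul_le_mul_left _ e4
    rw [e1, e3]
    calc g * (3 * a i) = idx i * c i * (3 * a i) * h' + idx i * c i * (3 * a i) := by
          rw [e2]; ring
      _ ≤ idx i * c i * (3 * a i) * h' + idx i * c i * (h' + 1) := Nat.add_le_add_left e5 _
      _ = 3 * (c i * a i) * (h' * idx i) + g := by rw [e2]; ring
  have hkey : g * (3 * ∑ i ∈ s, a i) ≤ 3 * z * ∑ i ∈ s, t i + s.card * g := by
    have := Finset.sum_le_sum hone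
    rw [Finset.sum_add_distrib, Finset.sum_const, smul_eq_mul, ← Finset.mul_sum, ← Finset.mul_sum,
      ← Finset.mul_sum] at this
    exact this
  have h5 : 3 * z * (cs + ∑ i ∈ s, t i) ≤ 3 * z * g := Nat.mul_le_mul_left _ hsum
  have h6 : g * (3 * zo + 3 * ∑ i ∈ s, a i) ≤ g * (3 * z + s.card) := by
    calc g * (3 * zo + 3 * ∑ i ∈ s, a i) = 3 * (g * zo) + g * (3 * ∑ i ∈ s, a i) := by ring
      _ ≤ 3 * (g * zo) + (3 * z * ∑ i ∈ s, t i + s.card * g) := Nat.add_le_add_left hkey _
      _ = 3 * z * (cs + ∑ i ∈ s, t i) + s.card * g := by rw [← hcs]; ring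
      _ ≤ 3 * z * g + s.card * g := Nat.add_le_add_right h5 _
      _ = g * (3 * z + s.card) := by ring
  have h7 := Nat.le_of_mul_le_mul_left h6 hg
  omega

end Cfsg.Agent.Lib.Helper60.BG14
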