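import Cfsg.Agent.Lib.Helper60.BG14Defs
import Cfsg.Agent.Lib.Helper60.BG147.A1
import Cfsg.Agent.Lib.Helper60.BG147.A3
import Cfsg.Agent.Lib.Helper60.BG147.B4

set_option autoImplicit false
set_option linter.unusedVariables false
set_option linter.unusedSectionVars false

/-! Ladder BG147, rung B5: the set `Zo Z`. -/

namespace Cfsg.Agent.Lib.Helper60.BG14

open Subgroup Cfsg.Agent.Lib.Helper30

universe u

variable {G : Type u} [Group G]

section
variable [Finite G] {Z H C A : Subgroup G}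

theorem Zo_conj (hG : Cfsg.IsMinSimpleOddOrder G) (T : TX G) (h30 : T1430 G) (h31 : T1431 G)
    (h : Att Z H C A) {z g : G} (hz : z ∈ Zo Z) (hg : g * z * g⁻¹ ∈ Zo Z) : g ∈ Z := by
  have hz1 : z ≠ 1 := by
    intro e
    exact hz.2 H C A h (e ▸ A.one_mem)
  have ho1 : orderOf z ≠ 1 := fun e => hz1 (orderOf_eq_one_iff.1 e)
  obtain ⟨s, hs, hsz⟩ := Nat.exists_prime_and_dvd ho1
  obtain ⟨x, hx⟩ : ∃ x, x = z ^ (orderOf z / s) := ⟨_, rfl⟩
  have hox : orderOf x = s := by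
    rw [hx, orderOf_pow_orderOf_div (orderOf_pos z).ne' hsz]
  have hxz : x ∈ zpowers z := hx ▸ Subgroup.pow_mem _ (mem_zpowers z) _
  have hx1 : x ≠ 1 := by
    intro e
    rw [e, orderOf_one] at hox
    exact hs.one_lt.ne hox
  obtain ⟨H', C', A', hatt, hXA'⟩ := h.cover hG T h30 h31 (X := zpowers x)
    (zpowers_le.2 (zpowers_le.2 hz.1 hxz)) (by rw [Nat.card_zpowers, hox]; exact hs)
  have hz' := hatt.zd hG h30 h31
  have hxA' : x ∈ A' := hXA' (mem_zpowers x)
  have hsA' : s ∣ Nat.card A' := hox ▸ Subgroup.orderOf_dvd_natCard A' hxA'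
  have hnotC : ∀ w : G, orderOf w = orderOf z → w ∉ C' := by
    intro w hw hwC
    have h1 : s ∣ Nat.card C' := (hw ▸ hsz).trans (Subgroup.orderOf_dvd_natCard C' hwC)
    have h2 : s ∣ 1 := by
      have := Nat.dvd_gcd h1 hsA'
      rwa [hz'.cop] at this
    exact hs.one_lt.ne' (Nat.dvd_one.1 h2)
  have hmem : ∀ w : G, w ∈ Zo Z → orderOf w = orderOf z → w ∈ Zh C' A' := by
    intro w hw hwo
    refine ⟨?_, ?_⟩
    · show w ∈ C' ⊔ A'
      rw [hatt.sup]; exact hw.1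
    · rintro (h1 | h1)
      · exact hnotC w hwo h1
      · exact hw.2 H' C' A' hatt h1
  have ho : orderOf (g * z * g⁻¹) = orderOf z := by
    have := orderOf_injective (MulAut.conj g).toMonoidHom (MulAut.conj g).injective z
    simpa [MulAut.conj_apply] using this
  rw [← hatt.sup]
  exact hz'.mem_of_conj (hmem z hz rfl) (hmem _ hg ho)

theorem Zo_stable (hG : Cfsg.IsMinSimpleOddOrder G) (h30 : T1430 G) (h31 : T1431 G)
    {z g : G} (hg : g ∈ Z) (hz : z ∈ Zo Z) : g * z * g⁻¹ ∈ Zo Z := by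
  refine ⟨Z.mul_mem (Z.mul_mem hg hz.1) (Z.inv_mem hg), ?_⟩
  intro H' C' A' hatt hmem
  have hz' := hatt.zd hG h30 h31
  have hN : Z ≤ normalizer (A' : Set G) := by
    rw [← hatt.sup]
    refine sup_le ?_ le_normalizer
    refine le_trans ?_ (centralizer_le_normalizer _)
    intro c hc
    rw [mem_centralizer_iff]
    intro a ha
    exact (hz'.comm c hc a ha).symm
  exact hz.2 H' C' A' hatt ((mem_normalizer_iff.1 (hN hg) z).2 hmem)

theorem ncard_Zo (hG : Cfsg.IsMinSimpleOddOrder G) (T : TX G) (h30 : T1430 G) (h31 : T1431 G)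
    (h : Att Z H C A) :
    (Zo Z).ncard + 1 + ∑ B ∈ attSet Z, (Nat.card B - 1) = Nat.card Z := by
  have hset : Zo Z = (Z : Set G) \ ⋃ B ∈ attSet Z, (B : Set G) := by
    ext z
    simp only [Zo, Set.mem_ofPred_eq, Set.mem_sdiff, SetLike.mem_coe, Set.mem_iUnion, mem_attSet,
      exists_prop, not_exists, not_and]
    constructor
    · rintro ⟨h1, h2⟩
      refine ⟨h1, ?_⟩
      rintro B ⟨H', C', hatt⟩
      exact h2 H' C' B hatt
    · rintro ⟨h1, h2⟩
      refine ⟨h1, ?_⟩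
      intro H' C' B hatt
      exact h2 B ⟨H', C', hatt⟩
  rw [hset]
  apply ncard_diff_biUnion Z (attSet Z) ⟨A, mem_attSet.2 ⟨H, C, h⟩⟩
  · intro B hB
    obtain ⟨H', C', hatt⟩ := mem_attSet.1 hB
    exact hatt.sup ▸ le_sup_right
  · intro B₁ hB₁ B₂ hB₂ hne
    obtain ⟨H₁, C₁, hatt₁⟩ := mem_attSet.1 hB₁
    obtain ⟨H₂, C₂, hatt₂⟩ := mem_attSet.1 hB₂
    apply disjoint_iff.1
    apply Subgroup.disjoint_of_coprime_natCard
    by_contra hn
    exact hne (hatt₁.unique hG T h30 h31 hatt₂ hn).2.2.symm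

end

end Cfsg.Agent.Lib.Helper60.BG14
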