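import Cfsg.Agent.Lib.Helper60.BG14Defs

set_option autoImplicit false

/-! Rung B6 of the ladder BG147 (helper67): S1379, first part. -/

namespace Cfsg.Agent.Lib.Helper60.BG14

open Subgroup Cfsg.Agent.Lib.Helper30

universe u

variable {G : Type u} [Group G]

theorem tilde_disjoint [Finite G] (hG : Cfsg.IsMinSimpleOddOrder G) (T : TX G) {M N : Subgroup G}
    (hM : IsCoatom M) (hN : IsCoatom N) (hn : ∀ g : G, N ≠ cj g M) : Tl M ∩ Tl N = ∅ := by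
  rw [Set.eq_empty_iff_forall_notMem]
  rintro t ⟨h1, h2⟩
  unfold Tl at h1 h2
  rw [Cfsg.Agent.Lib.Helper24.BG14.tildeOf_eq hG T hM] at h1
  rw [Cfsg.Agent.Lib.Helper24.BG14.tildeOf_eq hG T hN] at h2
  obtain ⟨y, x, hx, hx1, r, hr, rfl⟩ := h1
  obtain ⟨y', x', hx', hx1', r', hr', heq⟩ := h2
  have hMy := Cfsg.Agent.Lib.Helper24.BG14.isCoatom_cj hM y
  have hNy := Cfsg.Agent.Lib.Helper24.BG14.isCoatom_cj hN y'
  have hxs : x ∈ Cfsg.sigmaCore (cj y M) := by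
    rw [Cfsg.Agent.Lib.Helper24.BG14.sigmaCore_cj hG hM]; exact hx
  have hxs' : x' ∈ Cfsg.sigmaCore (cj y' N) := by
    rw [Cfsg.Agent.Lib.Helper24.BG14.sigmaCore_cj hG hN]; exact hx'
  have hxx : x = x' := by
    by_contra hne
    exact Cfsg.Agent.Lib.Helper24.BG14.S1433_of hG T _ _ hMy hNy x x' hxs hxs' hx1 hx1' hne
      r hr r' hr' heq
  subst hxx
  obtain ⟨s, hs, hsx⟩ := Nat.exists_prime_and_dvd
    (fun h => hx1 (orderOf_eq_one_iff.mp h) : orderOf x ≠ 1)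
  have h3 := Cfsg.Agent.Lib.Helper24.BG14.prime_mem_sigma_of_dvd_order hG hMy hxs hs hsx
  have h4 := Cfsg.Agent.Lib.Helper24.BG14.prime_mem_sigma_of_dvd_order hG hNy hxs' hs hsx
  rw [Cfsg.Agent.Lib.Helper24.BG14.sigma_cj] at h3 h4
  exact Cfsg.Agent.Lib.Helper24.BG14.not_mem_sigma_of_nconj T.h78 hM hN hn h3 h4

end Cfsg.Agent.Lib.Helper60.BG14
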