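import Cfsg.Agent.Lib.Helper60.BG14Defs
import Cfsg.Agent.Lib.Helper60.BG147.A1
import Cfsg.Agent.Lib.Helper60.BG147.B4

set_option autoImplicit false

/-! Rung B7 of the ladder BG147 (helper67). -/

namespace Cfsg.Agent.Lib.Helper60.BG14

open Subgroup Cfsg.Agent.Lib.Helper30

universe u

variable {G : Type u} [Group G]

theorem Zo_not_tilde [Finite G] (hG : Cfsg.IsMinSimpleOddOrder G) (T : TX G) (h30 : T1430 G)
    (h31 : T1431 G) {Z H C A : Subgroup G} (h : Att Z H C A) {N : Subgroup G} (hN : IsCoatom N)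
    {z : G} (hz : z ∈ Zo Z) (y : G) : y * z * y⁻¹ ∉ Tl N := by
  intro hmem
  have hzT : z ∈ Tl N := by
    obtain ⟨a, ha, r, hr, w, hw⟩ := hmem
    refine ⟨a, ha, r, hr, y⁻¹ * w, ?_⟩
    have : z = y⁻¹ * (y * z * y⁻¹) * y := by group
    rw [this, hw]
    group
  unfold Tl at hzT
  rw [Cfsg.Agent.Lib.Helper24.BG14.tildeOf_eq hG T hN] at hzT
  obtain ⟨w, a, ha, ha1, r, hr, rfl⟩ := hzT
  have hN' : IsCoatom (cj w N) := Cfsg.Agent.Lib.Helper24.BG14.isCoatom_cj hN w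
  have haσ : a ∈ Cfsg.sigmaCore (cj w N) := by
    rw [Cfsg.Agent.Lib.Helper24.BG14.sigmaCore_cj hG hN]; exact ha
  obtain ⟨hcomm, hcop⟩ := Cfsg.Agent.Lib.Helper24.BG14.supportR_facts hG T hN' haσ ha1 hr
  have hoaσ : orderOf a ∣ Nat.card (Cfsg.sigmaCore (cj w N)) := by
    have := orderOf_dvd_natCard (⟨a, haσ⟩ : Cfsg.sigmaCore (cj w N))
    rwa [← Subgroup.orderOf_coe] at this
  have hoa : (orderOf a).Coprime (orderOf r) := Nat.Coprime.coprime_dvd_left hoaσ hcop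
  have haz : a ∈ zpowers (a * r) := Cfsg.Agent.Lib.Helper24.BG14.mem_zpowers_mul_left hcomm hoa
  have haZ : a ∈ Z := (zpowers_le.mpr hz.1) haz
  obtain ⟨s, hs, hsa⟩ := Nat.exists_prime_and_dvd
    (fun h => ha1 (orderOf_eq_one_iff.mp h) : orderOf a ≠ 1)
  set x := a ^ (orderOf a / s) with hx
  have hxo : orderOf x = s := orderOf_pow_orderOf_div (orderOf_pos a).ne' hsa
  have hx1 : x ≠ 1 := by
    intro h1
    rw [h1, orderOf_one] at hxo
    exact hs.one_lt.ne hxo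
  have hXZ : zpowers x ≤ Z := by
    rw [zpowers_le]
    exact Z.pow_mem haZ _
  have hXcard : (Nat.card (zpowers x)).Prime := by rw [Nat.card_zpowers, hxo]; exact hs
  obtain ⟨H', C', A', hAtt, hXA⟩ := h.cover hG T h30 h31 hXZ hXcard
  have hzd := hAtt.zd hG h30 h31
  have hH' := hAtt.pp.coatom
  have hxA : x ∈ A' := hXA (mem_zpowers x)
  have hxσ : x ∈ Cfsg.sigmaCore H' := by
    have := hxA
    rw [hAtt.A_eq] at this
    exact this.1
  have hs1 : s ∈ Cfsg.sigma H' :=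
    Cfsg.Agent.Lib.Helper24.BG14.prime_mem_sigma_of_dvd_order hG hH' hxσ hs (by rw [hxo])
  have hs2 : s ∈ Cfsg.sigma (cj w N) :=
    Cfsg.Agent.Lib.Helper24.BG14.prime_mem_sigma_of_dvd_order hG hN' haσ hs hsa
  obtain ⟨g, hg⟩ := T.h78 H' (cj w N) hH' hN' ⟨s, hs1, hs2⟩
  have hxN : x ∈ cj w N :=
    Cfsg.Agent.Lib.Helper28.BG12.sigmaCore_le _ ((Cfsg.sigmaCore (cj w N)).pow_mem haσ _)
  have hgH : g ∈ H' := by
    by_contra hgn
    have h1 := hzd.ti g hgn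
    have h2 : x ∈ A' ⊓ H'.map (MulAut.conj g).toMonoidHom := ⟨hxA, by rw [hg] at hxN; exact hxN⟩
    rw [h1, mem_bot] at h2
    exact hx1 h2
  have hNH : cj w N = H' := by
    rw [hg]
    exact cj_eq_of_mem hgH
  have haA : a ∈ A' := by
    rw [hAtt.eq_inf hG h30 h31]
    exact ⟨haZ, by rw [hNH] at haσ; exact haσ⟩
  have hC : centralizer ({a} : Set G) ≤ cj w N := by
    rw [hNH]
    exact hzd.centralizer_le haA ha1
  rw [Cfsg.Agent.Lib.Helper24.BG14.supportR_of_cent_le hC, mem_bot] at hr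
  subst hr
  rw [mul_one] at hz
  exact hz.2 H' C' A' hAtt haA

end Cfsg.Agent.Lib.Helper60.BG14
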