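import Cfsg.Agent.Lib.Helper60.BG14Defs
import Cfsg.Agent.Lib.Helper60.BG147.A2
import Cfsg.Agent.Lib.Helper60.BG147.A3
import Cfsg.Agent.Lib.Helper60.BG147.B4
import Cfsg.Agent.Lib.Helper60.BG147.B5
import Cfsg.Agent.Lib.Helper60.BG147.B6
import Cfsg.Agent.Lib.Helper60.BG147.B7

set_option autoImplicit false
set_option linter.unusedVariables false
set_option linter.unusedSectionVars false

/-! Ladder BG147, rung B8: the counting argument. -/

namespace Cfsg.Agent.Lib.Helper60.BG14

open Subgroup Cfsg.Agent.Lib.Helper30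

universe u

variable {G : Type u} [Group G]

theorem no_all_P1 [Finite G] (hG : Cfsg.IsMinSimpleOddOrder G) (T : TX G) (h30 : T1430 G)
    (h31 : T1431 G) (h77 : T1377 G) {Z H C A : Subgroup G} (h : Att Z H C A)
    (hall : ∀ H' C' A' : Subgroup G, Att Z H' C' A' →
      Nat.card H' = Nat.card C' * Nat.card (Cfsg.sigmaCore H')) : False := by
  classical
  have hex : ∀ B ∈ attSet Z, ∃ H' C' : Subgroup G, Att Z H' C' B := fun B hB => mem_attSet.1 hB
  choose! HB CB hB using hex
  have hsum := ncard_add_sum_le (attSet Z) (CS (Zo Z)) (fun B => Tl (HB B))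
    (by
      intro B hBm
      rw [Set.eq_empty_iff_forall_notMem]
      rintro a ⟨⟨g, z, hz, rfl⟩, ha⟩
      exact Zo_not_tilde hG T h30 h31 h (hB B hBm).pp.coatom hz g ha)
    (by
      intro B₁ h₁ B₂ h₂ hne
      apply tilde_disjoint hG T (hB B₁ h₁).pp.coatom (hB B₂ h₂).pp.coatom
      intro g hg
      exact hne ((hB B₁ h₁).eq_of_conj hG T h30 h31 (hB B₂ h₂) g hg).2.2.symm)
  refine count_abs (attSet Z) (h.two_le hG T h30 h31) (Nat.card G) (Nat.card Z) (Zo Z).ncard
    (CS (Zo Z)).ncard (fun B => Nat.card B) (fun B => Nat.card (CB B))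
    (fun B => Nat.card (Cfsg.sigmaCore (HB B))) (fun B => (Tl (HB B)).ncard)
    (fun B => (HB B).index) Nat.card_pos (ncard_Zo hG T h30 h31 h) ?_ ?_ ?_ ?_ ?_ ?_ hsum
  · exact ncard_CS_of_TI (fun z hz g hg => Zo_conj hG T h30 h31 h hz hg)
      (fun g hg z hz => Zo_stable hG h30 h31 hg hz)
  · intro B hBm
    exact h77 (HB B) (hB B hBm).pp.coatom
  · intro B hBm
    show (HB B).index * (Nat.card (CB B) * Nat.card (Cfsg.sigmaCore (HB B))) = Nat.card G
    rw [← hall _ _ _ (hB B hBm)]
    exact (HB B).index_mul_card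
  · intro B hBm
    show Nat.card (CB B) * Nat.card B = Nat.card Z
    rw [← ((hB B hBm).zd hG h30 h31).card_sup, (hB B hBm).sup]
  · intro B hBm
    exact (hB B hBm).three_mul_le hG h30 h31
  · intro B hBm
    exact Nat.card_pos

end Cfsg.Agent.Lib.Helper60.BG14
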