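import Cfsg.Agent.Lib.Helper60.BG14Defs
import Cfsg.Agent.S1446
import Cfsg.Agent.Lib.Helper28.BG16a

set_option autoImplicit false

/-! Rung B9 of the ladder BG147 (helper67). -/

namespace Cfsg.Agent.Lib.Helper60.BG14

open Subgroup Cfsg.Agent.Lib.Helper30

universe u

variable {G : Type u} [Group G]

theorem b9_card_sup_dvd {H K : Subgroup G} (h : H ≤ normalizer (K : Set G)) :
    Nat.card (H ⊔ K : Subgroup G) ∣ Nat.card H * Nat.card K := by
  have hK : K ≤ normalizer (K : Set G) := le_normalizer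
  have : (K.subgroupOf (normalizer (K : Set G))).Normal := normal_in_normalizer
  have h1 := Cfsg.Agent.Lib.Helper30.card_sup_dvd_mul (H.subgroupOf (normalizer (K : Set G)))
    (K.subgroupOf (normalizer (K : Set G)))
  rw [← subgroupOf_sup h hK, Cfsg.Agent.Lib.Helper30.card_subgroupOf (sup_le h hK),
    Cfsg.Agent.Lib.Helper30.card_subgroupOf h, Cfsg.Agent.Lib.Helper30.card_subgroupOf hK] at h1
  exact h1

theorem prime_of_not_P1 [Finite G] (hG : Cfsg.IsMinSimpleOddOrder G) (h29 : T1429 G)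
    (h30 : T1430 G) {M K : Subgroup G} (hP : PP M K) (hn : ¬ IsP1 M) :
    (Nat.card K).Prime ∧ Group.IsNilpotent (Cfsg.sigmaCore M) := by
  have hM := hP.coatom
  have hn' := hn
  unfold IsP1 at hn'
  push Not at hn'
  obtain ⟨q, hq, hqM, hqσ, hqκ⟩ := hn'
  haveI : Fact q.Prime := ⟨hq⟩
  obtain ⟨h30a, ⟨Ub, -, hUh, hKU, hUfree⟩, -⟩ := h30 M hM K hP.hall hP.ne
  have hqπ : q ∈ {q : ℕ | q.Prime ∧ q ∉ Cfsg.kappa M ∧ q ∉ Cfsg.sigma M} := ⟨hq, hqκ, hqσ⟩
  have hqU : q ∣ Nat.card Ub := by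
    have h1 := card_eq_card_mul_relIndex hUh.1
    rw [h1] at hqM
    rcases (Nat.Prime.dvd_mul hq).mp hqM with h | h
    · exact h
    · exact absurd h (hUh.2.2 q hq hqπ)
  have hU1 : Ub ≠ ⊥ := by
    rintro rfl
    rw [Subgroup.card_bot] at hqU
    exact hq.one_lt.ne' (Nat.dvd_one.mp hqU)
  obtain ⟨Q, hQ⟩ := exists_isSylowIn q Ub
  have hQM : IsSylowIn q Q M := by
    refine ⟨hQ.le.trans hUh.1, hQ.isPGroup, ?_⟩
    rw [← relIndex_mul_relIndex Q Ub M hQ.le hUh.1]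
    intro h
    rcases (Nat.Prime.dvd_mul hq).mp h with h | h
    · exact hQ.not_dvd h
    · exact hUh.2.2 q hq hqπ h
  obtain ⟨S, hS⟩ := hQM.exists_sylow
  obtain ⟨-, hcent, hnil⟩ := h29 M hM hn q hqM (by
    rintro (h | h)
    · exact hqσ h
    · exact hqκ h) S
  refine ⟨?_, hnil⟩
  have hCU : Cfsg.sigmaCore M ⊓ centralizer (Ub : Set G) = ⊥ := by
    rw [eq_bot_iff, ← hcent]
    apply inf_le_inf_left
    apply centralizer_le
    have : closure {x : G | x ∈ (S : Subgroup M).map M.subtype ∧ x ^ q = 1} ≤ Ub := by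
      rw [closure_le]
      rintro x ⟨hx, -⟩
      rw [hS] at hx
      exact hQ.le hx
    exact this
  have hcopUK : (Nat.card Ub).Coprime (Nat.card K) := by
    apply Nat.coprime_of_dvd
    intro k hk h1 h2
    exact (hUh.2.1 k hk h1).2.1 (hP.hall.2.1 k hk h2)
  have hUK : Ub ⊓ K = ⊥ := by
    rw [eq_bot_iff]
    intro x hx
    rw [mem_bot]
    have h1 : orderOf x ∣ Nat.card Ub := by
      have := orderOf_dvd_natCard (⟨x, hx.1⟩ : Ub)
      rwa [← Subgroup.orderOf_coe] at this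
    have h2 : orderOf x ∣ Nat.card K := by
      have := orderOf_dvd_natCard (⟨x, hx.2⟩ : K)
      rwa [← Subgroup.orderOf_coe] at this
    exact orderOf_eq_one_iff.mp (Nat.eq_one_of_dvd_coprimes hcopUK h1 h2)
  have hUKM : Ub ⊔ K ≤ M := sup_le hUh.1 hP.hall.1
  have hne : Ub ⊔ K ≠ ⊤ := fun h => hM.1 (top_le_iff.mp (h ▸ hUKM))
  have hSh := Cfsg.Agent.Lib.Helper28.BG12.sigmaCore_hall hG hM
  have hcop : (Nat.card ↥(Ub ⊔ K)).Coprime (Nat.card (Cfsg.sigmaCore M)) := by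
    apply Nat.coprime_of_dvd
    intro k hk h1 h2
    have h3 := hSh.2.1 k hk h2
    have h4 : k ∣ Nat.card K * Nat.card Ub := by
      rw [sup_comm] at h1
      exact h1.trans (b9_card_sup_dvd hKU)
    rcases (Nat.Prime.dvd_mul hk).mp h4 with h | h
    · exact (hP.hall.2.1 k hk h).2.2.1 h3
    · exact (hUh.2.1 k hk h).2.2 h3
  exact (Cfsg.Agent.S1446.result Ub K (Cfsg.sigmaCore M) hU1 hP.ne hUK hKU hUfree
    (solvable_of_ne_top hG hne)
    (Odd.of_dvd_nat hG.1 (Subgroup.card_subgroup_dvd_card _))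
    (Cfsg.Agent.Lib.Helper28.BG12.sigmaCore_ne_bot hG hM) hnil
    (hUh.1.trans (Cfsg.Agent.Lib.Helper28.BG12.le_normalizer_sigmaCore M))
    (hP.hall.1.trans (Cfsg.Agent.Lib.Helper28.BG12.le_normalizer_sigmaCore M))
    hcop hCU h30a).1

theorem card_of_P1 [Finite G] (hG : Cfsg.IsMinSimpleOddOrder G) {M K : Subgroup G} (hP : PP M K)
    (h : IsP1 M) : Nat.card M = Nat.card K * Nat.card (Cfsg.sigmaCore M) := by
  have hM := hP.coatom
  have hS := Cfsg.Agent.Lib.Helper28.BG12.sigmaCore_hall hG hM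
  have hK := hP.hall
  have e1 := card_eq_card_mul_relIndex hK.1
  have e2 := card_eq_card_mul_relIndex hS.1
  have h1 : Nat.card K = (Cfsg.sigmaCore M).relIndex M := by
    apply Cfsg.Agent.Lib.Helper66.pi_factorization_unique (π := Cfsg.kappa M)
      (n₁ := K.relIndex M) (n₂ := Nat.card (Cfsg.sigmaCore M))
      (by rw [← e1, e2, mul_comm]) hK.2.1 hK.2.2
    · intro p hp hpd
      apply h p hp
      · rw [e2]
        exact Dvd.dvd.mul_left hpd _
      · intro hσ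
        exact hS.2.2 p hp hσ hpd
    · intro p hp hκ hpd
      exact hκ.2.2.1 (hS.2.1 p hp hpd)
  rw [e2, h1, mul_comm]

end Cfsg.Agent.Lib.Helper60.BG14
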