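import Cfsg.Agent.Lib.Helper60.BG14Defs
import Cfsg.Agent.Lib.Helper60.BG147.A1
import Cfsg.Agent.Lib.Helper60.BG147.B1
import Cfsg.Agent.Lib.Helper60.BG147.B4
import Cfsg.Agent.Lib.Helper60.BG147.B8
import Cfsg.Agent.Lib.Helper60.BG147.B9

set_option autoImplicit false
set_option linter.unusedVariables false
set_option linter.unusedSectionVars false

/-! Ladder BG147, rung B10: the main theorem. -/

namespace Cfsg.Agent.Lib.Helper60.BG14

open Subgroup Cfsg.Agent.Lib.Helper30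

universe u

variable {G : Type u} [Group G]

theorem isCyclic_of_kappa_nilpotent [Finite G] {H A : Subgroup G} (hAH : A ≤ H)
    (hk : ∀ p : ℕ, p.Prime → p ∣ Nat.card A → p ∈ Cfsg.kappa H) (hn : Group.IsNilpotent A) :
    IsCyclic A := by
  have hZ : IsZGroup A := by
    refine ⟨fun p hp P => ?_⟩
    have : Fact p.Prime := ⟨hp⟩
    by_cases hpA : p ∣ Nat.card A
    · have hpκ := hk p hp hpA
      have hpg : IsPGroup p ((P : Subgroup A).map (Subgroup.inclusion hAH)) := P.2.map _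
      obtain ⟨Q, hQ⟩ := hpg.exists_le_sylow
      have hQc : IsCyclic Q := (hpκ.2.2.2 Q).1
      let φ : (P : Subgroup A) →* (Q : Subgroup H) :=
        ((Subgroup.inclusion hAH).comp (P : Subgroup A).subtype).codRestrict (Q : Subgroup H)
          (fun x => hQ ⟨x.1, x.2, rfl⟩)
      have hφ : Function.Injective φ := by
        intro x y hxy
        have h1 : (Subgroup.inclusion hAH) x.1 = (Subgroup.inclusion hAH) y.1 :=
          congrArg Subtype.val hxy
        exact Subtype.ext (Subgroup.inclusion_injective hAH h1)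
      exact isCyclic_of_injective φ hφ
    · have h1 : Nat.card P = 1 := by
        obtain ⟨k, hk'⟩ := IsPGroup.iff_card.mp P.2
        rcases k with _ | k
        · rw [hk', pow_zero]
        · exfalso
          apply hpA
          have h2 : p ∣ Nat.card P := by rw [hk']; exact dvd_pow_self p (Nat.succ_ne_zero k)
          exact h2.trans (Subgroup.card_subgroup_dvd_card _)
      have : Subsingleton P := (Nat.card_eq_one_iff_unique.1 h1).1
      infer_instance
  infer_instance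

/-- the structure of the attached family, starting from a member with `|C|` prime and `A`
nilpotent. -/
theorem b10_pair [Finite G] (hG : Cfsg.IsMinSimpleOddOrder G) (T : TX G) (h30 : T1430 G)
    (h31 : T1431 G) {Z H C A : Subgroup G} (h : Att Z H C A) (hC : (Nat.card C).Prime)
    (hA : Group.IsNilpotent A) :
    ∃ H' : Subgroup G, Att Z H' A C ∧ IsCyclic C ∧ IsCyclic A ∧
      ∀ H'' C'' A'' : Subgroup G, Att Z H'' C'' A'' →
        (H'' = H ∧ C'' = C ∧ A'' = A) ∨ (H'' = H' ∧ C'' = A ∧ A'' = C) := by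
  have hz := h.zd hG h30 h31
  obtain ⟨H', C', A', hatt, hCA'⟩ := h.cover hG T h30 h31 (X := C) (h.sup ▸ le_sup_left) hC
  have hz' := hatt.zd hG h30 h31
  have hcop : (Nat.card A).Coprime (Nat.card A') := by
    by_contra hn
    obtain ⟨-, -, e⟩ := h.unique hG T h30 h31 hatt hn
    have h1 : C ≤ C ⊓ A := le_inf le_rfl (e ▸ hCA')
    rw [hz.inf_eq_bot, le_bot_iff] at h1
    exact hz.K1 h1
  have hA'C : A' = C := by
    apply le_antisymm _ hCA'
    apply hz.le_left
    · rw [h.sup, ← hatt.sup]; exact le_sup_right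
    · exact hcop.symm
  subst hA'C
  have hC'A : C' = A := by
    have hle : C' ≤ A := by
      apply hz.le_right
      · rw [h.sup, ← hatt.sup]; exact le_sup_left
      · exact hz'.cop
    apply Subgroup.eq_of_le_of_card_ge hle
    have c1 := hz.card_sup
    have c2 := hz'.card_sup
    rw [h.sup] at c1
    rw [hatt.sup, c1, mul_comm] at c2
    exact (Nat.eq_of_mul_eq_mul_right Nat.card_pos c2).le
  subst hC'A
  have : Fact (Nat.card A').Prime := ⟨hC⟩
  refine ⟨H', hatt, isCyclic_of_prime_card rfl,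
    isCyclic_of_kappa_nilpotent hatt.pp.hall.1 hatt.pp.hall.2.1 hA, ?_⟩
  intro H'' C'' A'' hatt''
  have hz'' := hatt''.zd hG h30 h31
  obtain ⟨p, hp, hpA''⟩ := b1_exists_prime_dvd hz''.L1
  have h1 : p ∣ Nat.card A' * Nat.card C' := by
    rw [← hz.card_sup, h.sup, ← hatt''.sup]
    exact hpA''.trans (Subgroup.card_dvd_of_le le_sup_right)
  rcases hp.dvd_mul.1 h1 with h2 | h2
  · right
    apply hatt.unique hG T h30 h31 hatt''
    exact Nat.Prime.not_coprime_iff_dvd.2 ⟨p, hp, h2, hpA''⟩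
  · left
    apply h.unique hG T h30 h31 hatt''
    exact Nat.Prime.not_coprime_iff_dvd.2 ⟨p, hp, h2, hpA''⟩

theorem b10_isNilpotent_of_le {A B : Subgroup G} (h : A ≤ B) (hB : Group.IsNilpotent B) :
    Group.IsNilpotent A :=
  Group.nilpotent_of_mulEquiv (Subgroup.subgroupOfEquivOfLe h)

theorem b10_main_aux [Finite G] (hG : Cfsg.IsMinSimpleOddOrder G) (T : TX G) (h29 : T1429 G)
    (h30 : T1430 G) (h31 : T1431 G) (h77 : T1377 G) {Z M K L : Subgroup G} (h0 : Att Z M K L) :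
    ∃ Mstar : Subgroup G, Att Z Mstar L K ∧ IsCyclic K ∧ IsCyclic L ∧
      (¬ IsP1 M ∨ ¬ IsP1 Mstar) ∧
      ∀ H C A : Subgroup G, Att Z H C A →
        (H = M ∧ C = K ∧ A = L) ∨ (H = Mstar ∧ C = L ∧ A = K) := by
  obtain ⟨H, C, A, hatt, hnP1⟩ : ∃ H C A : Subgroup G, Att Z H C A ∧ ¬ IsP1 H := by
    by_contra hcon
    push Not at hcon
    exact no_all_P1 hG T h30 h31 h77 h0
      (fun H' C' A' hatt' => card_of_P1 hG hatt'.pp (hcon H' C' A' hatt'))
  obtain ⟨hCp, hnil⟩ := prime_of_not_P1 hG h29 h30 hatt.pp hnP1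
  have hAnil : Group.IsNilpotent A := b10_isNilpotent_of_le (b4_A_le hatt) hnil
  obtain ⟨H', hatt', hCc, hAc, hall⟩ := b10_pair hG T h30 h31 hatt hCp hAnil
  rcases hall M K L h0 with ⟨rfl, rfl, rfl⟩ | ⟨rfl, rfl, rfl⟩
  · exact ⟨H', hatt', hCc, hAc, Or.inl hnP1, hall⟩
  · exact ⟨H, hatt, hAc, hCc, Or.inr hnP1, fun H'' C'' A'' hatt'' => (hall H'' C'' A'' hatt'').symm⟩

theorem main [Finite G] (hG : Cfsg.IsMinSimpleOddOrder G) (T : TX G) (h29 : T1429 G)
    (h30 : T1430 G) (h31 : T1431 G) (h77 : T1377 G) {M K : Subgroup G} (hP : PP M K) :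
    ∃ Mstar : Subgroup G, Att (K ⊔ Ks M K) Mstar (Ks M K) K ∧ IsCyclic K ∧ IsCyclic ↥(Ks M K) ∧
      (¬ IsP1 M ∨ ¬ IsP1 Mstar) ∧
      ∀ H C A : Subgroup G, Att (K ⊔ Ks M K) H C A →
        (H = M ∧ C = K ∧ A = Ks M K) ∨ (H = Mstar ∧ C = Ks M K ∧ A = K) :=
  b10_main_aux hG T h29 h30 h31 h77 ⟨hP, rfl, rfl⟩

end Cfsg.Agent.Lib.Helper60.BG14
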