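import Cfsg.Agent.Lib.Helper60.BG147.Base
import Cfsg.Agent.Lib.Helper60.BG147.B10

/-!
B-G Theorem 14.7: S1351, S1366 from the rungs of the ladder BG147.
-/

set_option autoImplicit false

namespace Cfsg.Agent.Lib.Helper60.BG14

open Subgroup Cfsg.Agent.Lib.Helper30 Cfsg.Agent.Lib.Helper28.BG12

universe u

variable {G : Type u} [Group G] [Finite G]

set_option linter.unusedSectionVars false

/-- S1351. -/
theorem S1351_of (hG : Cfsg.IsMinSimpleOddOrder G) (T : TX G) (h29 : T1429 G) (h30 : T1430 G)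
    (h31 : T1431 G) (h77 : T1377 G) : T1351 G := by
  intro M hM
  refine ⟨Cfsg.Agent.Lib.Helper66.exists_isPiHallOf _ M (solvable_of_ne_top hG hM.1),
    fun K hK => ?_⟩
  by_cases hK1 : K = ⊥
  · subst hK1
    exact isCyclic_of_subsingleton
  · obtain ⟨Ms, -, hc, -⟩ := main hG T h29 h30 h31 h77 (⟨hM, hK, hK1⟩ : PP M K)
    exact hc

/-- S1366. -/
theorem S1366_of (hG : Cfsg.IsMinSimpleOddOrder G) (T : TX G) (h29 : T1429 G) (h30 : T1430 G)
    (h31 : T1431 G) (h77 : T1377 G) : T1366 G := by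
  intro M hM K U hKU hK1
  have hP := pp_of_decomp hM hKU hK1
  obtain ⟨Ms, hA, -⟩ := main hG T h29 h30 h31 h77 hP
  refine ⟨Ms, ⟨hA.pp.coatom, hA.A_eq, hA.pp.hall⟩, ?_⟩
  rintro M2 ⟨h1, h2, h3⟩
  exact (hA.unique hG T h30 h31 (att_star hG h30 h31 hP h1 h2 h3) (not_coprime_self hK1)).1

end Cfsg.Agent.Lib.Helper60.BG14
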