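import Cfsg.Agent.Lib.Helper60.BG14Defs
import Cfsg.Agent.S1416
import Cfsg.Agent.S1417
import Cfsg.Agent.S1418
import Cfsg.Agent.S1378
import Cfsg.Agent.S1432

/-!
helper24's bundle of texts from the proved statements.
-/

set_option autoImplicit false

namespace Cfsg.Agent.Lib.Helper60.BG14

universe u

theorem tx {G : Type u} [Group G] [Finite G] (hG : Cfsg.IsMinSimpleOddOrder G) : TX G :=
  ⟨fun M hM p _ A hA => (Cfsg.Agent.S1416.result hG M hM p A hA).1,
    fun M hM p _ hp A hA => Cfsg.Agent.S1417.result hG M hM p hp A hA,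
    fun M hM E hE p _ hp A hA => Cfsg.Agent.S1418.result hG M hM E hE p hp A hA,
    (Cfsg.Agent.S1378.result hG).2,
    fun M hM x hx hx1 x' hx' hx'1 hσ => Cfsg.Agent.S1432.result hG M hM x hx hx1 x' hx' hx'1 hσ⟩

end Cfsg.Agent.Lib.Helper60.BG14
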