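import Cfsg.Agent.Lib.Helper60.BG14Defs
import Cfsg.Agent.Lib.Helper28.BG16b
import Cfsg.Agent.Lib.Helper28.Cores
import Cfsg.Agent.Lib.Helper31.CN

set_option autoImplicit false
set_option linter.unusedVariables false

/-! Ladder BG147, rung C7. -/

namespace Cfsg.Agent.Lib.Helper60.BG14

open Subgroup Cfsg.Agent.Lib.Helper30

universe u

variable {G : Type u} [Group G]

theorem sigmaCore_le_fittingOf [Finite G] {M : Subgroup G}
    (hnil : Group.IsNilpotent (Cfsg.sigmaCore M)) : Cfsg.sigmaCore M ≤ Cfsg.fittingOf M := by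
  apply Subgroup.map_mono
  apply Cfsg.Agent.Lib.Helper28.le_fitting (Cfsg.piCore_normal _ _)
  have hnil' : Group.IsNilpotent ↥((Cfsg.piCore (Cfsg.sigma M) M).map M.subtype) := hnil
  exact Group.nilpotent_of_mulEquiv
    ((Cfsg.piCore (Cfsg.sigma M) M).equivMapOfInjective M.subtype M.subtype_injective).symm

theorem c7_fittingOf_nilpotent [Finite G] (M : Subgroup G) :
    Group.IsNilpotent (Cfsg.fittingOf M) := by
  have := Cfsg.Agent.Lib.Helper28.fitting_isNilpotent (G := M)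
  exact Group.nilpotent_of_mulEquiv
    ((Cfsg.fittingSubgroup M).equivMapOfInjective M.subtype M.subtype_injective)

theorem c7_fittingOf_le (M : Subgroup G) : Cfsg.fittingOf M ≤ M := map_subtype_le _

theorem c7_le_normalizer_fittingOf (M : Subgroup G) :
    M ≤ normalizer (Cfsg.fittingOf M : Set G) :=
  Cfsg.Agent.Lib.Helper28.le_normalizer_map_subtype Cfsg.Agent.Lib.Helper28.fitting_normal

/-- an element of prime order `s ∉ σ(M)` of `F(M)`: `M` is the only maximal subgroup over its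
centralizer. -/
theorem c7_uniq [Finite G] (hG : Cfsg.IsMinSimpleOddOrder G) (h20 : T1420 G)
    (h39 : T1439 G) {M : Subgroup G} (hM : IsCoatom M)
    (hnil : Group.IsNilpotent (Cfsg.sigmaCore M)) {s : ℕ} (hs : s.Prime) (hsσ : s ∉ Cfsg.sigma M)
    {x : G} (hx : x ∈ Cfsg.fittingOf M) (hxo : orderOf x = s) :
    ∀ L : Subgroup G, IsCoatom L → centralizer ({x} : Set G) ≤ L → L = M := by
  have hx1 : x ≠ 1 := by
    rintro rfl
    rw [orderOf_one] at hxo
    exact hs.one_lt.ne hxo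
  have hxM : x ∈ M := c7_fittingOf_le M hx
  obtain ⟨E, hE, -⟩ := Cfsg.Agent.Lib.Helper28.BG12.exists_compl_ge hG hM (X := ⊥) bot_le
    (by
      intro q hq hqd
      rw [card_bot] at hqd
      exact absurd (Nat.dvd_one.mp hqd) hq.one_lt.ne')
  -- x ∈ sigmaHat M
  have hhat : x ∈ Cfsg.sigmaHat M := by
    obtain ⟨⟨y, hy⟩, hy1⟩ := Subgroup.ne_bot_iff_exists_ne_one.mp
      (Cfsg.Agent.Lib.Helper28.BG12.sigmaCore_ne_bot hG hM)
    refine ⟨hxM, y, hy, fun h => hy1 (Subtype.ext h), ?_⟩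
    apply Cfsg.Agent.Lib.Helper31.commute_of_mem_nilpotent _ (c7_fittingOf_nilpotent M) hx
      (sigmaCore_le_fittingOf hnil hy)
    rw [hxo, Nat.Prime.coprime_iff_not_dvd hs]
    intro hd
    exact hsσ (Cfsg.Agent.Lib.Helper24.BG14.prime_mem_sigma_of_dvd_order hG hM hy hs hd)
  -- s ∈ τ₂(M)
  have hτ : s ∈ Cfsg.tau2 M := by
    obtain ⟨-, h2, h3⟩ := h39 M hM
    apply h2 s hs
    have hsF : s ∣ Nat.card (Cfsg.fittingOf M) := hxo ▸ Subgroup.orderOf_dvd_natCard _ hx
    have hle : Cfsg.fittingOf (Cfsg.sigmaCore M) ≤ Cfsg.fittingOf M := by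
      conv_rhs => rw [h3]
      exact le_sup_left
    have hn : Cfsg.fittingOf (Cfsg.sigmaCore M) ≤ normalizer
        ((Cfsg.piCoreOf {q | q.Prime ∧ q ∉ Cfsg.sigma M} (Cfsg.fittingOf M) : Subgroup G) : Set G) :=
      hle.trans (Cfsg.Agent.Lib.Helper28.le_normalizer_map_subtype (Cfsg.piCore_normal _ _))
    have hsF' : s ∣ Nat.card (Cfsg.piCoreOf {q | q.Prime ∧ q ∉ Cfsg.sigma M} (Cfsg.fittingOf M) ⊔
        Cfsg.fittingOf (Cfsg.sigmaCore M) : Subgroup G) := by
      rw [sup_comm, ← h3]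
      exact hsF
    rcases Cfsg.Agent.Lib.Helper28.BG12.prime_dvd_card_sup hn hs hsF' with h | h
    · exact h
    · exfalso
      apply hsσ
      apply (Cfsg.Agent.Lib.Helper28.BG12.sigmaCore_hall hG hM).2.1 s hs
      exact h.trans (card_dvd_of_le (c7_fittingOf_le _))
  have := (h20 M hM E hE).2.2.2 x hxM hx1 (by
    intro p hp hpd
    rw [hxo] at hpd
    rwa [(Nat.prime_dvd_prime_iff_eq hp hs).mp hpd]) hhat
  exact this.2

theorem fittingOf_TI [Finite G] (hG : Cfsg.IsMinSimpleOddOrder G) (h20 : T1420 G) (h26 : T1426 G)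
    (h39 : T1439 G) {M : Subgroup G} (hM : IsCoatom M)
    (hnil : Group.IsNilpotent (Cfsg.sigmaCore M)) (hβ : Cfsg.sigma M ⊆ Cfsg.beta M) :
    Cfsg.IsTISubset (Cfsg.fittingOf M : Set G) := by
  intro g hg x hx hgx
  have hgM : g ∉ M := fun h => hg (c7_le_normalizer_fittingOf M h)
  by_contra hx1
  have hx' : x ∈ Cfsg.fittingOf M := hx
  have hgx' : g * x * g⁻¹ ∈ Cfsg.fittingOf M := hgx
  have ho1 : orderOf x ≠ 1 := by rwa [Ne, orderOf_eq_one_iff]
  obtain ⟨s, hs, hsd⟩ := Nat.exists_prime_and_dvd ho1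
  obtain ⟨x0, hx0⟩ : ∃ x0, x0 = x ^ (orderOf x / s) := ⟨_, rfl⟩
  have hx0o : orderOf x0 = s := by
    rw [hx0]
    exact orderOf_pow_orderOf_div (orderOf_pos x).ne' hsd
  have hx0F : x0 ∈ Cfsg.fittingOf M := by
    rw [hx0]; exact pow_mem hx' _
  have hgx0F : g * x0 * g⁻¹ ∈ Cfsg.fittingOf M := by
    rw [hx0, ← conj_pow]; exact pow_mem hgx' _
  have hx01 : x0 ≠ 1 := by
    rintro rfl
    rw [orderOf_one] at hx0o
    exact hs.one_lt.ne hx0o
  by_cases hsσ : s ∈ Cfsg.sigma M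
  · obtain ⟨E, hE, -⟩ := Cfsg.Agent.Lib.Helper28.BG12.exists_compl_ge hG hM (X := ⊥) bot_le
      (by
        intro q hq hqd
        rw [card_bot] at hqd
        exact absurd (Nat.dvd_one.mp hqd) hq.one_lt.ne')
    have h1 : x0 ∈ Cfsg.sigmaCore M := by
      apply Cfsg.Agent.Lib.Helper24.BG14.mem_sigmaCore_of_order hG hM (c7_fittingOf_le M hx0F)
      intro p hp hpd
      rw [hx0o] at hpd
      rwa [(Nat.prime_dvd_prime_iff_eq hp hs).mp hpd]
    have h2 : x0 ∈ cj g⁻¹ M := by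
      rw [mem_cj, inv_inv]
      exact c7_fittingOf_le M hgx0F
    have hg' : g⁻¹ ∉ M := fun h => hgM (by simpa using M.inv_mem h)
    have h3 := ((h26 M hM E hE).2.2 g⁻¹ hg').2.1 s hs (by
      rw [← hx0o]
      exact Subgroup.orderOf_dvd_natCard _ (mem_inf.mpr ⟨h1, h2⟩))
    exact h3 (hβ hsσ)
  · have hu := c7_uniq hG h20 h39 hM hnil hs hsσ hgx0F
      (((SemiconjBy.conj_mk g x0).orderOf_eq).symm.trans hx0o)
    have hc := c7_uniq hG h20 h39 hM hnil hs hsσ hx0F hx0o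
    -- C(x0) ≤ M
    obtain ⟨L, hL, hCL⟩ : ∃ L : Subgroup G, IsCoatom L ∧ centralizer ({x0} : Set G) ≤ L := by
      have hne : centralizer ({x0} : Set G) ≠ ⊤ := by
        intro htop
        have hz : zpowers x0 ≠ ⊥ := by rwa [Ne, zpowers_eq_bot]
        have hn : (zpowers x0).Normal := by
          refine ⟨fun n hn k => ?_⟩
          obtain ⟨i, rfl⟩ := mem_zpowers_iff.mp hn
          have hk : k ∈ centralizer ({x0} : Set G) := htop ▸ mem_top k
          have hk' : k * x0 = x0 * k := mem_centralizer_singleton_iff.mp hk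
          have : k * x0 ^ i * k⁻¹ = x0 ^ i := by
            have hc : Commute k (x0 ^ i) := Commute.zpow_right hk' i
            rw [hc.eq, mul_inv_cancel_right]
          rw [this]
          exact zpow_mem (mem_zpowers x0) i
        have hsimple := hG.2.1
        rcases hsimple.eq_bot_or_eq_top_of_normal _ hn with h | h
        · exact hz h
        · apply hM.1
          rw [eq_top_iff, ← h]
          exact zpowers_le.mpr (c7_fittingOf_le M hx0F)
      obtain ⟨L, hL, hle⟩ := (eq_top_or_exists_le_coatom _).resolve_left hne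
      exact ⟨L, hL, hle⟩
    have hLM := hc L hL hCL
    subst hLM
    have h4 : cj g L = L := by
      apply hu _ (Cfsg.Agent.Lib.Helper24.BG14.isCoatom_cj hM g)
      rw [Cfsg.Agent.Lib.Helper24.BG14.centralizer_singleton_cj]
      exact cj_mono g hCL
    exact hgM (Cfsg.Agent.Lib.Helper28.BG12.mem_of_cj_eq hG hM h4)

theorem not_P1_of_decomp [Finite G] (hG : Cfsg.IsMinSimpleOddOrder G) {M K U : Subgroup G}
    (hM : IsCoatom M) (hKU : Cfsg.IsSigmaDecomposition M K U) (hU1 : U ≠ ⊥) : ¬ IsP1 M := by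
  intro h
  have hc : Nat.card U ≠ 1 := fun e => hU1 (Subgroup.card_eq_one.mp e)
  obtain ⟨r, hr, hrd⟩ := Nat.exists_prime_and_dvd hc
  exact Cfsg.Agent.Lib.Helper28.BG12.not_kappa_of_decomp hKU hr hrd
    (h r hr (hrd.trans (card_dvd_of_le hKU.compl.1))
      (Cfsg.Agent.Lib.Helper28.BG12.not_sigma_of_decomp hG hM hKU hr hrd))

theorem P1_of_decomp [Finite G] (hG : Cfsg.IsMinSimpleOddOrder G) {M K : Subgroup G}
    (hM : IsCoatom M) (hKU : Cfsg.IsSigmaDecomposition M K ⊥) : IsP1 M := by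
  intro q hq hqd hqσ
  have hle : M ≤ K ⊔ Cfsg.sigmaCore M := by
    intro m hm
    obtain ⟨a, ha, b, hb, rfl⟩ := hKU.compl.2.2.2 m hm
    rw [mem_bot] at ha
    rw [ha, one_mul]
    exact hb
  have he : Cfsg.sigmaCore M ⊔ K = M := by
    rw [sup_comm]
    exact le_antisymm hKU.compl.2.1 hle
  rw [← he] at hqd
  rcases Cfsg.Agent.Lib.Helper28.BG12.prime_dvd_card_sup
    (hKU.hall.1.trans (Cfsg.Agent.Lib.Helper28.BG12.le_normalizer_sigmaCore M)) hq hqd with h | h
  · exact absurd ((Cfsg.Agent.Lib.Helper28.BG12.sigmaCore_hall hG hM).2.1 q hq h) hqσ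
  · exact hKU.hall.2.1 q hq h

end Cfsg.Agent.Lib.Helper60.BG14
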