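import Cfsg.Agent.Lib.Helper60.BG14Defs
import Cfsg.Agent.Lib.Helper60.BG147.A1
import Cfsg.Agent.Lib.Helper60.BG147.A2
import Cfsg.Agent.Lib.Helper60.BG147.B1
import Cfsg.Agent.Lib.Helper60.BG147.B4
import Cfsg.Agent.Lib.Helper28.BG16a

set_option autoImplicit false
set_option linter.unusedVariables false

/-! Ladder BG147, rung C8 : second part of S1369. -/

namespace Cfsg.Agent.Lib.Helper60.BG14

open Subgroup Cfsg.Agent.Lib.Helper30

universe u

variable {G : Type u} [Group G]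

omit [Group G] in
/-- two subsets with more than half of the elements meet. -/
theorem c8_exists_mem_inter [Finite G] {A B : Set G} (hA : Nat.card G < 2 * A.ncard)
    (hB : Nat.card G < 2 * B.ncard) : ∃ a, a ∈ A ∧ a ∈ B := by
  by_contra hcon
  push Not at hcon
  have hd : Disjoint A B := Set.disjoint_left.mpr hcon
  have h1 : (A ∪ B).ncard = A.ncard + B.ncard :=
    Set.ncard_union_eq hd (Set.toFinite A) (Set.toFinite B)
  have h2 : (A ∪ B).ncard ≤ Nat.card G := by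
    rw [← Set.ncard_univ]
    exact Set.ncard_le_ncard (Set.subset_univ _) (Set.toFinite _)
  omega

theorem c8_mem_sigma [Finite G] (hG : Cfsg.IsMinSimpleOddOrder G) {M : Subgroup G}
    (hM : IsCoatom M) {X : Subgroup G} (hX : X ≤ Cfsg.sigmaCore M) (hp : (Nat.card X).Prime) :
    Nat.card X ∈ Cfsg.sigma M :=
  (Cfsg.Agent.Lib.Helper28.BG12.sigmaCore_hall hG hM).2.1 _ hp (card_dvd_of_le hX)

theorem conj_of_kappa [Finite G] (hG : Cfsg.IsMinSimpleOddOrder G) (T : TX G) (h30 : T1430 G)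
    (h31 : T1431 G) {Z M K L Ms : Subgroup G} (h : Att Z M K L) (h' : Att Z Ms L K)
    {H : Subgroup G} (hH : IsCoatom H) (hk : (Cfsg.kappa H).Nonempty) :
    ∃ g : G, H = cj g M ∨ H = cj g Ms := by
  obtain ⟨p, hp⟩ := hk
  obtain ⟨C, hC⟩ := Cfsg.Agent.Lib.Helper66.exists_isPiHallOf (Cfsg.kappa H) H
    (solvable_of_ne_top hG hH.1)
  have hC1 : C ≠ ⊥ := Cfsg.Agent.Lib.Helper28.BG12.ne_bot_of_dvd_card hp.1
    (Cfsg.Agent.Lib.Helper28.BG12.dvd_card_of_hall hC hp.1 hp hp.2.1)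
  have hz' : ZD H C (Ks H C) := PP.zd hG h30 h31 ⟨hH, hC, hC1⟩
  have hz : ZD M K L := h.zd hG h30 h31
  have hodd : Odd (Nat.card G) := hG.1
  obtain ⟨a, ⟨g, z, hzz, rfl⟩, ⟨g', z', hzz', he⟩⟩ :=
    c8_exists_mem_inter (hz.half_lt hodd) (hz'.half_lt hodd)
  set w := g⁻¹ * g' with hw
  have hzw : z = w * z' * w⁻¹ := by
    have : z = g⁻¹ * (g * z * g⁻¹) * g := by group
    rw [this, he, hw]; group
  obtain ⟨c, hc, a', ha', hc1, ha'1, rfl⟩ := hz'.mem_Zh_iff.1 hzz'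
  obtain ⟨-, ha'z⟩ := hz'.a1_mem_zpowers hc ha'
  have ho1 : orderOf a' ≠ 1 := fun h0 => ha'1 (orderOf_eq_one_iff.1 h0)
  obtain ⟨s, hs, hsd⟩ := Nat.exists_prime_and_dvd ho1
  set a0 := a' ^ (orderOf a' / s) with ha0
  have ha0o : orderOf a0 = s := orderOf_pow_orderOf_div (orderOf_pos a').ne' hsd
  have ha0z : a0 ∈ zpowers (c * a') := Subgroup.pow_mem _ ha'z _
  have ha0H : a0 ∈ Cfsg.sigmaCore H := (Subgroup.pow_mem _ ha' _ : a0 ∈ Ks H C).1
  have hsH : s ∈ Cfsg.sigma H := by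
    have := c8_mem_sigma hG hH (X := zpowers a0) (zpowers_le.mpr ha0H)
      (by rw [Nat.card_zpowers, ha0o]; exact hs)
    rwa [Nat.card_zpowers, ha0o] at this
  set X := zpowers (w * a0 * w⁻¹) with hX
  have hXc : Nat.card X = s := by
    rw [hX, Nat.card_zpowers, ← MulAut.conj_apply, MulEquiv.orderOf_eq, ha0o]
  have hXZ : X ≤ K ⊔ L := by
    rw [hX, zpowers_le]
    obtain ⟨n, hn⟩ := mem_zpowers_iff.mp ha0z
    have h1 : w * a0 * w⁻¹ = z ^ n := by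
      rw [hzw, ← hn, ← MulAut.conj_apply, ← MulAut.conj_apply, map_zpow]
    rw [h1]
    exact Subgroup.zpow_mem _ hzz.1 n
  rcases hz.le_or_le hXZ (hXc ▸ hs) with hXK | hXL
  · -- `X ≤ K = Ks Ms L`
    have h1 : X ≤ Cfsg.sigmaCore Ms := by
      intro x hx
      have := hXK hx
      rw [h'.A_eq] at this
      exact this.1
    have h2 : s ∈ Cfsg.sigma Ms := hXc ▸ c8_mem_sigma hG h'.pp.coatom h1 (hXc ▸ hs)
    obtain ⟨g₁, hg₁⟩ := T.h78 Ms H h'.pp.coatom hH ⟨s, h2, hsH⟩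
    exact ⟨g₁, Or.inr hg₁⟩
  · have h1 : X ≤ Cfsg.sigmaCore M := by
      intro x hx
      have := hXL hx
      rw [h.A_eq] at this
      exact this.1
    have h2 : s ∈ Cfsg.sigma M := hXc ▸ c8_mem_sigma hG h.pp.coatom h1 (hXc ▸ hs)
    obtain ⟨g₁, hg₁⟩ := T.h78 M H h.pp.coatom hH ⟨s, h2, hsH⟩
    exact ⟨g₁, Or.inl hg₁⟩

end Cfsg.Agent.Lib.Helper60.BG14
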