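import Cfsg.Agent.Lib.Helper60.BG147.Base
import Cfsg.Agent.Lib.Helper60.BG147.B10
import Cfsg.Agent.Lib.Helper60.BG147.C7
import Cfsg.Agent.Lib.Helper60.BG147.C8

/-!
B-G Theorem 14.7: S1369 from the rungs of the ladder BG147.
-/

set_option autoImplicit false

namespace Cfsg.Agent.Lib.Helper60.BG14

open Subgroup Cfsg.Agent.Lib.Helper30 Cfsg.Agent.Lib.Helper28.BG12

universe u

variable {G : Type u} [Group G] [Finite G]

set_option linter.unusedSectionVars false

/-- S1369. -/
theorem S1369_of (hG : Cfsg.IsMinSimpleOddOrder G) (T : TX G) (h29 : T1429 G) (h30 : T1430 G)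
    (h31 : T1431 G) (h77 : T1377 G) : T1369 G := by
  intro M hM K U hKU hK1 Ms hMs hKst hKstH
  have hP := pp_of_decomp hM hKU hK1
  have hA := att_star hG h30 h31 hP hMs hKst hKstH
  refine ⟨?_, fun H hH hk => conj_of_kappa hG T h30 h31 (att_self hP) hA hH hk⟩
  obtain ⟨Ms', hA', -, -, hor, -⟩ := main hG T h29 h30 h31 h77 hP
  obtain rfl : Ms = Ms' := (hA'.unique hG T h30 h31 hA (not_coprime_self hK1)).1
  by_contra hcon
  push Not at hcon
  obtain ⟨hU, Us, hUs, hUs1⟩ := hcon
  subst hU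
  subst hUs1
  rcases hor with h | h
  · exact h (P1_of_decomp hG hM hKU)
  · exact h (P1_of_decomp hG hMs hUs)

end Cfsg.Agent.Lib.Helper60.BG14
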