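import Cfsg.Agent.Lib.Helper60.BG14Defs
import Cfsg.Agent.Lib.Helper28.BG16a
import Cfsg.Agent.S1415

set_option autoImplicit false
set_option linter.unusedVariables false

/-! Ladder BG147, rung C2. -/

namespace Cfsg.Agent.Lib.Helper60.BG14

open Subgroup Cfsg.Agent.Lib.Helper30
open scoped commutatorElement

universe u

variable {G : Type u} [Group G]

/-- if `k` normalizes `U` and has no non-identity fixed point on `U`, every element of `U` is a
commutator `[v, k]`, `v ∈ U`. -/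
theorem c2_exists_commutator [Finite G] {U : Subgroup G} {k : G}
    (hk : k ∈ normalizer (U : Set G)) (hf : U ⊓ centralizer ({k} : Set G) = ⊥) :
    ∀ u ∈ U, ∃ v ∈ U, u = ⁅v, k⁆ := by
  let φ : U → U := fun v => ⟨⁅(v : G), k⁆, by
    rw [commutatorElement_def, mul_assoc, mul_assoc, ← mul_assoc k]
    exact U.mul_mem v.2 ((mem_normalizer_iff.mp hk _).mp (U.inv_mem v.2))⟩
  have hinj : Function.Injective φ := by
    intro v w hvw
    have h1 : ⁅(v : G), k⁆ = ⁅(w : G), k⁆ := congrArg Subtype.val hvw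
    rw [commutatorElement_def, commutatorElement_def] at h1
    have h2 : (v : G) * k * (v : G)⁻¹ = (w : G) * k * (w : G)⁻¹ := mul_right_cancel h1
    have h3 : (w : G)⁻¹ * (v : G) ∈ U ⊓ centralizer ({k} : Set G) := by
      refine mem_inf.mpr ⟨U.mul_mem (U.inv_mem w.2) v.2, ?_⟩
      rw [mem_centralizer_singleton_iff]
      calc (w : G)⁻¹ * (v : G) * k = (w : G)⁻¹ * ((v : G) * k * (v : G)⁻¹) * (v : G) := by group
        _ = (w : G)⁻¹ * ((w : G) * k * (w : G)⁻¹) * (v : G) := by rw [h2]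
        _ = k * ((w : G)⁻¹ * (v : G)) := by group
    rw [hf, mem_bot] at h3
    apply Subtype.ext
    exact (inv_mul_eq_one.mp h3).symm
  have hsurj := Finite.surjective_of_injective hinj
  intro u hu
  obtain ⟨v, hv⟩ := hsurj ⟨u, hu⟩
  exact ⟨v.1, v.2, (congrArg Subtype.val hv).symm⟩

theorem c2_le_commutator [Finite G] {U K : Subgroup G} {k : G} (hkK : k ∈ K)
    (hk : k ∈ normalizer (U : Set G)) (hf : U ⊓ centralizer ({k} : Set G) = ⊥) :
    U ≤ ⁅U, K⁆ := by
  intro u hu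
  obtain ⟨v, hv, rfl⟩ := c2_exists_commutator hk hf u hu
  exact commutator_mem_commutator hv hkK

theorem kappa_eq_tau1 [Finite G] (hG : Cfsg.IsMinSimpleOddOrder G) (h30 : T1430 G)
    {M K : Subgroup G} (hP : PP M K) (hKc : IsCyclic K) : Cfsg.kappa M = Cfsg.tau1 M := by
  have hM := hP.coatom
  ext p
  constructor
  · intro hp
    exact Cfsg.Agent.Lib.Helper28.BG12.kappa_subset_tau1 hG (Cfsg.Agent.S1415.result hG) h30 hM hKc
      hP.hall hp
  · intro hp
    by_contra hκ
    obtain ⟨hpp, hpσ, hpM, hpM', -⟩ := hp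
    obtain ⟨-, ⟨Ub, -, hUh, hKU, hUfree⟩, -⟩ := h30 M hM K hP.hall hP.ne
    have hpU : p ∣ Nat.card Ub := by
      have h1 := card_eq_card_mul_relIndex hUh.1
      rw [h1] at hpM
      rcases (Nat.Prime.dvd_mul hpp).mp hpM with h | h
      · exact h
      · exact absurd h (hUh.2.2 p hpp ⟨hpp, hκ, hpσ⟩)
    obtain ⟨⟨k, hk⟩, hk1⟩ := Subgroup.ne_bot_iff_exists_ne_one.mp hP.ne
    have hk1' : k ≠ 1 := fun h => hk1 (Subtype.ext h)
    have h2 : Ub ≤ ⁅M, M⁆ :=
      (c2_le_commutator hk (hKU hk) (hUfree k hk hk1')).trans (commutator_mono hUh.1 hP.hall.1)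
    exact hpM' (hpU.trans (card_dvd_of_le h2))

end Cfsg.Agent.Lib.Helper60.BG14
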