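import Cfsg.Agent.Lib.Helper60.BG14Defs
import Cfsg.Agent.Lib.Helper60.BG147.C2
import Cfsg.Agent.Lib.Helper27.BG14b

set_option autoImplicit false
set_option linter.unusedVariables false

/-! Rung C6 of the ladder BG147 (helper51): `σ(M) ⊆ β(M)` for `M` of type `P₂`.
Short proof: `U = [U, K] ≤ M'` is an `r'`-group normalizing a Sylow `r`-subgroup `S ≤ M_σ ≤ M'`; if
`r ∉ β(M)`, helper58's `lemmaK` gives `[S, U] = 1`, against `C_{M_σ}(U) = 1`. -/

namespace Cfsg.Agent.Lib.Helper60.BG14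

open Subgroup Cfsg.Agent.Lib.Helper30

universe u

variable {G : Type u} [Group G]

theorem sigma_subset_beta [Finite G] (hG : Cfsg.IsMinSimpleOddOrder G) (h29 : T1429 G)
    (h30 : T1430 G) {M K : Subgroup G} (hP : PP M K) (hn : ¬ IsP1 M) :
    Cfsg.sigma M ⊆ Cfsg.beta M := by
  have hM := hP.coatom
  have hn' := hn
  unfold IsP1 at hn'
  push Not at hn'
  obtain ⟨q, hq, hqM, hqσ, hqκ⟩ := hn'
  have : Fact q.Prime := ⟨hq⟩
  obtain ⟨h30a, ⟨Ub, -, hUh, hKU, hUfree⟩, -⟩ := h30 M hM K hP.hall hP.ne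
  have hqπ : q ∈ {q : ℕ | q.Prime ∧ q ∉ Cfsg.kappa M ∧ q ∉ Cfsg.sigma M} := ⟨hq, hqκ, hqσ⟩
  obtain ⟨Q, hQ⟩ := exists_isSylowIn q Ub
  have hQM : IsSylowIn q Q M := by
    refine ⟨hQ.le.trans hUh.1, hQ.isPGroup, ?_⟩
    rw [← relIndex_mul_relIndex Q Ub M hQ.le hUh.1]
    intro h
    rcases (Nat.Prime.dvd_mul hq).mp h with h | h
    · exact hQ.not_dvd h
    · exact hUh.2.2 q hq hqπ h
  obtain ⟨S, hS⟩ := hQM.exists_sylow
  obtain ⟨-, hcent, hnil⟩ := h29 M hM hn q hqM (by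
    rintro (h | h)
    · exact hqσ h
    · exact hqκ h) S
  have hCU : Cfsg.sigmaCore M ⊓ centralizer (Ub : Set G) = ⊥ := by
    rw [eq_bot_iff, ← hcent]
    apply inf_le_inf_left
    apply centralizer_le
    have : closure {x : G | x ∈ (S : Subgroup M).map M.subtype ∧ x ^ q = 1} ≤ Ub := by
      rw [closure_le]
      rintro x ⟨hx, -⟩
      rw [hS] at hx
      exact hQ.le hx
    exact this
  obtain ⟨k, hk, hk1⟩ : ∃ k : G, k ∈ K ∧ k ≠ 1 := by
    by_contra hcon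
    push Not at hcon
    exact hP.ne ((eq_bot_iff_forall K).mpr hcon)
  have hUM' : Ub ≤ ⁅M, M⁆ :=
    (c2_le_commutator hk (hKU hk) (hUfree k hk hk1)).trans (commutator_mono hUh.1 hP.hall.1)
  have hMs := Cfsg.Agent.Lib.Helper28.BG12.sigmaCore_hall hG hM
  intro r hr
  by_contra hrβ
  have hrp : r.Prime := hr.1
  have : Fact r.Prime := ⟨hrp⟩
  have hrMs : r ∣ Nat.card (Cfsg.sigmaCore M) := by
    have h1 := hr.2.1
    rw [card_eq_card_mul_relIndex hMs.1] at h1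
    rcases (Nat.Prime.dvd_mul hrp).mp h1 with h | h
    · exact h
    · exact absurd h (hMs.2.2 r hrp hr)
  have hUN : Ub ≤ normalizer (Cfsg.sigmaCore M : Set G) :=
    hUh.1.trans (Cfsg.Agent.Lib.Helper28.BG12.le_normalizer_sigmaCore M)
  have hcop : (Nat.card Ub).Coprime (Nat.card (Cfsg.sigmaCore M)) :=
    Nat.coprime_of_dvd (fun p hp h1 h2 => (hUh.2.1 p hp h1).2.2 (hMs.2.1 p hp h2))
  have hsolv : Group.IsSolvable (Cfsg.sigmaCore M) :=
    solvable_of_ne_top hG (ne_top_of_le_ne_top hM.1 hMs.1)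
  obtain ⟨R, hR, hRU⟩ := exists_invariant_isSylowIn hUN hcop (Or.inr hsolv) r
  have hR1 : R ≠ ⊥ := Cfsg.Agent.Lib.Helper58.BG13.ne_bot_of_isSylowIn_of_dvd hR hrMs
  have hUR : Ub ≤ centralizer (R : Set G) := by
    apply Cfsg.Agent.Lib.Helper58.BG13.lemmaK hG hM hrβ hR.isPGroup hR1
      (hR.le.trans (Cfsg.Agent.Lib.Helper31.sigmaCore_le_commutator hG hM)) hUM' _ hRU
    rw [Nat.coprime_comm, hrp.coprime_iff_not_dvd]
    intro h
    exact (hUh.2.1 r hrp h).2.2 hr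
  apply hR1
  rw [eq_bot_iff, ← hCU]
  exact le_inf hR.le (le_centralizer_iff.mp hUR)

end Cfsg.Agent.Lib.Helper60.BG14
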