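import Cfsg.Agent.Lib.Helper60.BG147.Base
import Cfsg.Agent.Lib.Helper60.BG147.B9
import Cfsg.Agent.Lib.Helper60.BG147.C6
import Cfsg.Agent.Lib.Helper60.BG147.C7

/-!
B-G Theorem 14.7: S1372 from the rungs of the ladder BG147.
-/

set_option autoImplicit false

namespace Cfsg.Agent.Lib.Helper60.BG14

open Subgroup Cfsg.Agent.Lib.Helper30 Cfsg.Agent.Lib.Helper28.BG12

universe u

variable {G : Type u} [Group G] [Finite G]

set_option linter.unusedSectionVars false

/-- S1372. -/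
theorem S1372_of (hG : Cfsg.IsMinSimpleOddOrder G) (h20 : T1420 G) (h26 : T1426 G) (h29 : T1429 G)
    (h30 : T1430 G) (h39 : T1439 G) : T1372 G := by
  intro M hM K U hKU hK1 hU1
  have hP := pp_of_decomp hM hKU hK1
  have hn := not_P1_of_decomp hG hM hKU hU1
  obtain ⟨h1, h2⟩ := prime_of_not_P1 hG h29 h30 hP hn
  exact ⟨h1, fittingOf_TI hG h20 h26 h39 hM h2 (sigma_subset_beta hG h29 h30 hP hn),
    sigmaCore_le_fittingOf h2⟩

end Cfsg.Agent.Lib.Helper60.BG14
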