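import Cfsg.Agent.Lib.Helper60.BG14Defs
import Cfsg.Agent.Lib.Helper27.BG14b

set_option autoImplicit false
set_option linter.unusedVariables false

/-! Rung C4 of the ladder BG147 (helper51): B-G 14.7 (a), `𝓜(C_G(X)) = {M}` for `X ≤ K*` of prime
order.  The key step is helper27's `le_commutator_of_not_mem_beta`. -/

namespace Cfsg.Agent.Lib.Helper60.BG14

open Subgroup Cfsg.Agent.Lib.Helper30

universe u

variable {G : Type u} [Group G]

theorem uniq_of_Ks [Finite G] (hG : Cfsg.IsMinSimpleOddOrder G) (h23 : T1423 G) (h26 : T1426 G)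
    (h30 : T1430 G) (h31 : T1431 G) {M K : Subgroup G} (hP : PP M K) {X : Subgroup G}
    (hX : X ≤ Ks M K) (hp : (Nat.card X).Prime) :
    centralizer (X : Set G) ≤ M ∧
      ∀ L : Subgroup G, IsCoatom L → centralizer (X : Set G) ≤ L → L = M := by
  have hM := hP.coatom
  haveI : Fact (Nat.card X).Prime := ⟨hp⟩
  have hMs := Cfsg.Agent.Lib.Helper28.BG12.sigmaCore_hall hG hM
  have hXs : X ≤ Cfsg.sigmaCore M := hX.trans inf_le_left
  have hqσ : Nat.card X ∈ Cfsg.sigma M := hMs.2.1 _ hp (card_dvd_of_le hXs)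
  have hXM : X ≤ M := hXs.trans hMs.1
  obtain ⟨-, ⟨Ub, -, hUh, hKU, hUfree⟩, -⟩ := h30 M hM K hP.hall hP.ne
  have hX1 : X ≠ ⊥ := by
    rintro rfl
    rw [Subgroup.card_bot] at hp
    exact Nat.not_prime_one hp
  have key : Nat.card X ∈ Cfsg.beta M ∨ X ≤ ⁅Cfsg.sigmaCore M, Cfsg.sigmaCore M⁆ := by
    by_cases hβ : Nat.card X ∈ Cfsg.beta M
    · exact Or.inl hβ
    · exact Or.inr (Cfsg.Agent.Lib.Helper27.BG14.le_commutator_of_not_mem_beta hG hM hP.hall hP.ne
        hUh hKU hUfree hX (IsPGroup.of_card (n := 1) (by rw [pow_one])) hX1 hβ)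
  obtain ⟨P⟩ : Nonempty (Sylow (Nat.card X) ↥(Cfsg.sigmaCore M)) := inferInstance
  exact (h23 M hM (Nat.card X) hqσ X hXM rfl P key).1

end Cfsg.Agent.Lib.Helper60.BG14
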