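import Cfsg.Agent.Lib.Helper60.BG147.Base
import Cfsg.Agent.Lib.Helper60.BG147.C4

/-!
B-G Theorem 14.7: S1367 from the rungs of the ladder BG147.
-/

set_option autoImplicit false

namespace Cfsg.Agent.Lib.Helper60.BG14

open Subgroup Cfsg.Agent.Lib.Helper30 Cfsg.Agent.Lib.Helper28.BG12

universe u

variable {G : Type u} [Group G] [Finite G]

set_option linter.unusedSectionVars false

/-- S1367. -/
theorem S1367_of (hG : Cfsg.IsMinSimpleOddOrder G) (h23 : T1423 G) (h26 : T1426 G)
    (h30 : T1430 G) (h31 : T1431 G) : T1367 G := by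
  intro M hM K U hKU hK1 Ms hMs hKst hKstH
  have hP := pp_of_decomp hM hKU hK1
  have hA := att_star hG h30 h31 hP hMs hKst hKstH
  refine ⟨fun X hX hp => uniq_of_Ks hG h23 h26 h30 h31 hP hX hp, fun Y hY hp => ?_⟩
  exact uniq_of_Ks hG h23 h26 h30 h31 hA.pp (hY.trans hKst.le) hp

end Cfsg.Agent.Lib.Helper60.BG14
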