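import Cfsg.Agent.Lib.Helper60.BG14Defs
import Cfsg.Agent.Lib.Helper60.BG147.A1
import Cfsg.Agent.Lib.Helper60.BG147.B1
import Cfsg.Agent.Lib.Helper60.BG147.B4

set_option autoImplicit false
set_option linter.unusedVariables false
set_option linter.unusedSectionVars false

/-! Ladder BG147, rung C1 (helper29): `M ∩ M* = Z`, `Z` cyclic. -/

namespace Cfsg.Agent.Lib.Helper60.BG14

open Subgroup Cfsg.Agent.Lib.Helper30

universe u

variable {G : Type u} [Group G]

theorem ZD.isCyclic_sup [Finite G] {M K L : Subgroup G} (h : ZD M K L) (hK : IsCyclic K)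
    (hL : IsCyclic L) : IsCyclic ↥(K ⊔ L) := by
  obtain ⟨a, ha⟩ := hK.exists_generator
  obtain ⟨b, hb⟩ := hL.exists_generator
  have hoa : orderOf (a : G) = Nat.card K := by
    rw [Subgroup.orderOf_coe]; exact orderOf_eq_card_of_forall_mem_zpowers ha
  have hob : orderOf (b : G) = Nat.card L := by
    rw [Subgroup.orderOf_coe]; exact orderOf_eq_card_of_forall_mem_zpowers hb
  have hc : Commute (a : G) (b : G) := h.comm a a.2 b b.2
  have ho : orderOf ((a : G) * (b : G)) = Nat.card K * Nat.card L := by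
    rw [hc.orderOf_mul_eq_mul_orderOf_of_coprime (by rw [hoa, hob]; exact h.cop), hoa, hob]
  have hmem : (a : G) * (b : G) ∈ K ⊔ L :=
    mul_mem (mem_sup_left a.2) (mem_sup_right b.2)
  apply isCyclic_of_orderOf_eq_card (⟨(a : G) * (b : G), hmem⟩ : ↥(K ⊔ L))
  rw [Subgroup.orderOf_mk, ho, h.card_sup]

section
variable [Finite G] {Z M K L Ms : Subgroup G}

theorem Att.not_conj (hG : Cfsg.IsMinSimpleOddOrder G) (T : TX G) (h30 : T1430 G) (h31 : T1431 G)
    (h : Att Z M K L) (h' : Att Z Ms L K) (g : G) : Ms ≠ cj g M := by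
  intro hg
  obtain ⟨-, h1, -⟩ := h.eq_of_conj hG T h30 h31 h' g hg
  have hz := h.zd hG h30 h31
  have h2 := hz.inf_eq_bot
  rw [h1, inf_idem] at h2
  exact hz.K1 h2

theorem Att.sigmaCore_inf (hG : Cfsg.IsMinSimpleOddOrder G) (T : TX G) (h30 : T1430 G)
    (h31 : T1431 G) (h : Att Z M K L) (h' : Att Z Ms L K) : Cfsg.sigmaCore M ⊓ Ms = L := by
  have hz := h.zd hG h30 h31
  have hz' := h'.zd hG h30 h31
  apply le_antisymm
  · intro d hd
    obtain ⟨⟨x, hx⟩, hx1'⟩ := Subgroup.ne_bot_iff_exists_ne_one.1 hz.K1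
    have hx1 : x ≠ 1 := fun e => hx1' (Subtype.ext e)
    have hxMs : x ∈ Cfsg.sigmaCore Ms := b4_A_le h' hx
    have hcop := Cfsg.Agent.Lib.Helper24.BG14.coprime_card_sigmaCore hG T.h78 h.pp.coatom
      h'.pp.coatom (h.not_conj hG T h30 h31 h')
    have hbot : Cfsg.sigmaCore M ⊓ Cfsg.sigmaCore Ms = ⊥ :=
      disjoint_iff.1 (Subgroup.disjoint_of_coprime_natCard hcop)
    have h1 : d * x * d⁻¹ * x⁻¹ ∈ Cfsg.sigmaCore Ms := by
      have hn := Cfsg.Agent.Lib.Helper28.BG12.le_normalizer_sigmaCore Ms hd.2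
      exact mul_mem ((mem_normalizer_iff.mp hn x).mp hxMs) (inv_mem hxMs)
    have h2 : d * x * d⁻¹ * x⁻¹ ∈ Cfsg.sigmaCore M := by
      have hn := Cfsg.Agent.Lib.Helper28.BG12.le_normalizer_sigmaCore M (hz.KM hx)
      have h3 := (mem_normalizer_iff.mp hn d⁻¹).mp (inv_mem hd.1)
      have e : d * x * d⁻¹ * x⁻¹ = d * (x * d⁻¹ * x⁻¹) := by group
      rw [e]
      exact mul_mem hd.1 h3
    have h3 : d * x * d⁻¹ * x⁻¹ ∈ Cfsg.sigmaCore M ⊓ Cfsg.sigmaCore Ms := ⟨h2, h1⟩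
    rw [hbot, mem_bot] at h3
    have h4 : x * d = d * x := by
      have e : d * x = (d * x * d⁻¹ * x⁻¹) * (x * d) := by group
      rw [e, h3, one_mul]
    have h5 : d ∈ Cfsg.sigmaCore M ⊓ centralizer ({x} : Set G) :=
      ⟨hd.1, mem_centralizer_singleton_iff.mpr h4.symm⟩
    rw [(h30 M h.pp.coatom K h.pp.hall h.pp.ne).1 x hx hx1] at h5
    rw [h.A_eq]
    exact h5
  · exact le_inf (b4_A_le h) hz'.KM

theorem Att.inf_eq (hG : Cfsg.IsMinSimpleOddOrder G) (T : TX G) (h30 : T1430 G) (h31 : T1431 G)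
    (h : Att Z M K L) (h' : Att Z Ms L K) : M ⊓ Ms = Z := by
  have hz := h.zd hG h30 h31
  have hz' := h'.zd hG h30 h31
  apply le_antisymm
  · intro i hi
    have hK : Cfsg.sigmaCore Ms ⊓ M = K := h'.sigmaCore_inf hG T h30 h31 h
    have hiN : i ∈ normalizer (K : Set G) := by
      have h1 : (M ⊓ Ms : Subgroup G) ≤
          normalizer ((Cfsg.sigmaCore Ms ⊓ M : Subgroup G) : Set G) :=
        le_normalizer_inf (inf_le_right.trans (Cfsg.Agent.Lib.Helper28.BG12.le_normalizer_sigmaCore Ms))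
          (inf_le_left.trans le_normalizer)
      rw [hK] at h1
      exact h1 hi
    obtain ⟨c₀, hc₀, hc₀1⟩ := b2_exists_ne_one hz.K1
    obtain ⟨c, hc, hcp⟩ := b1_exists_prime_pow hc₀1
    have hcK : c ∈ K := zpowers_le.2 hc₀ hc
    have h3 := ((h30 M h.pp.coatom K h.pp.hall h.pp.ne).2.2 (zpowers c) (zpowers_le.2 hcK)
      (by rw [Nat.card_zpowers]; exact hcp)).2.1
    have h4 : i ∈ M ⊓ normalizer (K : Set G) := ⟨hi.1, hiN⟩
    rw [h3] at h4
    have h5 : K ⊔ Cfsg.sigmaCore M ⊓ centralizer (K : Set G) = Z := by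
      rw [← h.sup, h.A_eq]
    rw [h5] at h4
    exact h4
  · rw [← h.sup]
    refine le_inf hz.sup_le ?_
    rw [sup_comm]
    exact hz'.sup_le

end

end Cfsg.Agent.Lib.Helper60.BG14
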