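import Cfsg.Agent.Lib.Helper60.BG147.Base

/-!
B-G Theorem 14.7: S1370 from the rungs of the ladder BG147.
-/

set_option autoImplicit false

namespace Cfsg.Agent.Lib.Helper60.BG14

open Subgroup Cfsg.Agent.Lib.Helper30 Cfsg.Agent.Lib.Helper28.BG12

universe u

variable {G : Type u} [Group G] [Finite G]

set_option linter.unusedSectionVars false

/-- S1370. -/
theorem S1370_of (hG : Cfsg.IsMinSimpleOddOrder G) (h30 : T1430 G) (h31 : T1431 G) : T1370 G := by
  intro M hM K U hKU hK1
  have hz := (pp_of_decomp hM hKU hK1).zd hG h30 h31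
  exact ⟨hz.isTI, hz.normalizer_Zh⟩

end Cfsg.Agent.Lib.Helper60.BG14
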