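import Cfsg.Agent.Lib.Helper60.BG14Defs
import Cfsg.Agent.Lib.Helper60.BG147.A1
import Cfsg.Agent.Lib.Helper60.BG147.B4
import Cfsg.Agent.Lib.Helper60.BG147.C1
import Cfsg.Agent.Lib.Helper66.PiHall

set_option autoImplicit false
set_option linter.unusedVariables false
set_option linter.unusedSectionVars false

/-! Ladder BG147, rung C3 (helper29): `L = K*` is a Hall `σ(M)`-subgroup of `M*`. -/

namespace Cfsg.Agent.Lib.Helper60.BG14

open Subgroup Cfsg.Agent.Lib.Helper30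

universe u

variable {G : Type u} [Group G]

section
variable [Finite G] {Z M K L Ms : Subgroup G}

theorem Att.hall_sigma (hG : Cfsg.IsMinSimpleOddOrder G) (T : TX G) (h30 : T1430 G)
    (h31 : T1431 G) (h : Att Z M K L) (h' : Att Z Ms L K) :
    Cfsg.IsPiHallOf (Cfsg.sigma M) L Ms := by
  have hz := h.zd hG h30 h31
  have hz' := h'.zd hG h30 h31
  have hLσ : ∀ p : ℕ, p.Prime → p ∣ Nat.card L → p ∈ Cfsg.sigma M :=
    b4_sigma_of_dvd hG h (b4_A_le h)
  obtain ⟨Y, hY, -, hLY⟩ := Cfsg.Agent.Lib.Helper66.exists_invariant_isPiHallOf_ge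
    (π := Cfsg.sigma M) (A := (⊥ : Subgroup G)) (G := Ms) (U := L) bot_le
    (by rw [Subgroup.card_bot]; exact Nat.coprime_one_left _)
    (solvable_of_ne_top hG h'.pp.coatom.1) hz'.KM bot_le hLσ
  have h1 : Y ⊓ (Cfsg.sigmaCore M ⊓ centralizer (K : Set G)) ≠ ⊥ := by
    have e : Cfsg.sigmaCore M ⊓ centralizer (K : Set G) = L := h.A_eq.symm
    rw [e, inf_eq_right.2 hLY]
    exact hz.L1
  have h2 : Y ≤ Cfsg.sigmaCore M :=
    (h31 M h.pp.coatom K h.pp.hall h.pp.ne).2.2.2 Y hY.2.1 h1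
  have h3 : Y ≤ L := by
    rw [← h.sigmaCore_inf hG T h30 h31 h']
    exact le_inf h2 hY.1
  have h4 : L = Y := le_antisymm hLY h3
  rw [h4]
  exact hY

end

end Cfsg.Agent.Lib.Helper60.BG14
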