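import Cfsg.Agent.Lib.Helper60.BG147.Base
import Cfsg.Agent.Lib.Helper60.BG147.A2
import Cfsg.Agent.Lib.Helper60.BG147.B10
import Cfsg.Agent.Lib.Helper60.BG147.C1
import Cfsg.Agent.Lib.Helper60.BG147.C2
import Cfsg.Agent.Lib.Helper60.BG147.C3

/-!
B-G Theorem 14.7: S1434 from the rungs of the ladder BG147.
-/

set_option autoImplicit false

namespace Cfsg.Agent.Lib.Helper60.BG14

open Subgroup Cfsg.Agent.Lib.Helper30 Cfsg.Agent.Lib.Helper28.BG12

universe u

variable {G : Type u} [Group G] [Finite G]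

set_option linter.unusedSectionVars false

/-- S1434. -/
theorem S1434_of (hG : Cfsg.IsMinSimpleOddOrder G) (T : TX G) (h29 : T1429 G) (h30 : T1430 G)
    (h31 : T1431 G) (h77 : T1377 G) : T1434 G := by
  intro M hM K U hKU hK1 Ms hMs hKst hKstH
  have hP := pp_of_decomp hM hKU hK1
  have hA := att_star hG h30 h31 hP hMs hKst hKstH
  have hz := hP.zd hG h30 h31
  have hz' : ZD Ms (Ks M K) K := hA.zd hG h30 h31
  obtain ⟨-, -, hc, hc', -⟩ := main hG T h29 h30 h31 h77 hP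
  have hcyc := hz.isCyclic_sup hc hc'
  have hcomm : ∀ a ∈ K ⊔ Ks M K, ∀ b ∈ K ⊔ Ks M K, a * b = b * a := by
    intro a ha b hb
    have := comm_of_isCyclic hcyc ⟨a, ha⟩ ⟨b, hb⟩
    exact congrArg Subtype.val this
  have hle : ∀ a ∈ K ⊔ Ks M K, K ⊔ Ks M K ≤ centralizer ({a} : Set G) := by
    intro a ha b hb
    rw [mem_centralizer_singleton_iff]
    exact hcomm b hb a ha
  refine ⟨kappa_eq_tau1 hG h30 hP hKU.cyclic, (att_self hP).hall_sigma hG T h30 h31 hA, ?_, ?_,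
    hz.ncard_CS, hz.half_lt hG.1⟩
  · intro x hx hx1 y hy hy1
    refine ⟨le_antisymm (hz.cent x hx hx1) (le_inf hz.sup_le (hle x (mem_sup_left hx))), ?_, ?_⟩
    · refine le_antisymm ?_ (le_inf ?_ (hle y (mem_sup_right hy)))
      · rw [sup_comm]; exact hz'.cent y hy hy1
      · rw [sup_comm]; exact hz'.sup_le
    · refine le_antisymm (hz.centralizer_Zh_le (hz.mem_Zh_iff.mpr ⟨x, hx, y, hy, hx1, hy1, rfl⟩))
        (hle _ (mul_mem (mem_sup_left hx) (mem_sup_right hy)))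
  · intro g hg z hz1
    exact hz.not_mem_conj hg hz1

end Cfsg.Agent.Lib.Helper60.BG14
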