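import Cfsg.Agent.Lib.Helper60.BG147.A1
import Cfsg.Agent.Lib.Helper60.BG147.B1

/-!
B-G Theorem 14.7: basic facts from the rungs of the ladder BG147.
-/

set_option autoImplicit false

namespace Cfsg.Agent.Lib.Helper60.BG14

open Subgroup Cfsg.Agent.Lib.Helper30 Cfsg.Agent.Lib.Helper28.BG12

universe u

variable {G : Type u} [Group G] [Finite G]

set_option linter.unusedSectionVars false

theorem pp_of_decomp {M K U : Subgroup G} (hM : IsCoatom M)
    (hKU : Cfsg.IsSigmaDecomposition M K U) (hK1 : K ≠ ⊥) : PP M K := ⟨hM, hKU.hall, hK1⟩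

theorem att_self {M K : Subgroup G} (hP : PP M K) : Att (K ⊔ Ks M K) M K (Ks M K) :=
  ⟨hP, rfl, rfl⟩

theorem att_star (hG : Cfsg.IsMinSimpleOddOrder G) (h30 : T1430 G) (h31 : T1431 G)
    {M K Ms : Subgroup G} (hP : PP M K) (hMs : IsCoatom Ms) (hKst : K = Ks Ms (Ks M K))
    (hH : Cfsg.IsPiHallOf (Cfsg.kappa Ms) (Ks M K) Ms) : Att (K ⊔ Ks M K) Ms (Ks M K) K :=
  ⟨⟨hMs, hH, (hP.zd hG h30 h31).L1⟩, hKst, sup_comm _ _⟩

theorem not_coprime_self {K : Subgroup G} (hK1 : K ≠ ⊥) :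
    ¬ (Nat.card K).Coprime (Nat.card K) := by
  intro h
  rw [Nat.coprime_self] at h
  exact hK1 (K.eq_bot_of_card_eq h)

end Cfsg.Agent.Lib.Helper60.BG14
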