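import Cfsg.Agent.Lib.Helper60.BG14Defs
import Cfsg.Agent.Lib.Helper60.BG147.A1
import Cfsg.Agent.Lib.Helper60.BG147.B1

set_option autoImplicit false
set_option linter.unusedVariables false

/-! Ladder BG147, rung C10. -/

namespace Cfsg.Agent.Lib.Helper60.BG14

open Subgroup Cfsg.Agent.Lib.Helper30

universe u

variable {G : Type u} [Group G]

theorem pi_parts [Finite G] (π : Set ℕ) (g : G) :
    ∃ a b : G, a ∈ zpowers g ∧ b ∈ zpowers g ∧ g = a * b ∧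
      (∀ p : ℕ, p.Prime → p ∣ orderOf a → p ∈ π) ∧ ∀ p : ℕ, p.Prime → p ∣ orderOf b → p ∉ π := by
  obtain ⟨m, n, e, hm, hn⟩ :=
    Cfsg.Agent.Lib.Helper66.exists_pi_factorization π (orderOf g) (orderOf_pos g).ne'
  have hcop : m.Coprime n := hm.coprime hn
  have hb : (m : ℤ) * Nat.gcdA m n + (n : ℤ) * Nat.gcdB m n = 1 := by
    have := Nat.gcd_eq_gcd_ab m n
    rw [hcop.gcd_eq_one] at this
    exact_mod_cast this.symm
  refine ⟨g ^ ((n : ℤ) * Nat.gcdB m n), g ^ ((m : ℤ) * Nat.gcdA m n),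
    zpow_mem (mem_zpowers g) _, zpow_mem (mem_zpowers g) _, ?_, ?_, ?_⟩
  · rw [← zpow_add, add_comm, hb, zpow_one]
  · intro p hp hpd
    apply hm p hp
    apply hpd.trans
    apply orderOf_dvd_of_pow_eq_one
    rw [← zpow_natCast, ← zpow_mul]
    have : (n : ℤ) * Nat.gcdB m n * (m : ℤ) = ((m * n : ℕ) : ℤ) * Nat.gcdB m n := by
      push_cast; ring
    rw [this, ← e, zpow_mul, zpow_natCast, pow_orderOf_eq_one, one_zpow]
  · intro p hp hpd hpπ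
    apply hn p hp hpπ
    apply hpd.trans
    apply orderOf_dvd_of_pow_eq_one
    rw [← zpow_natCast, ← zpow_mul]
    have : (m : ℤ) * Nat.gcdA m n * (n : ℤ) = ((m * n : ℕ) : ℤ) * Nat.gcdA m n := by
      push_cast; ring
    rw [this, ← e, zpow_mul, zpow_natCast, pow_orderOf_eq_one, one_zpow]

theorem claim [Finite G] (hG : Cfsg.IsMinSimpleOddOrder G) (T : TX G) (h25 : T1425 G)
    (h30 : T1430 G) (h31 : T1431 G) {M : Subgroup G} (hM : IsCoatom M) {g : G} (hgM : g ∈ M)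
    (hσ : ∃ p ∈ Cfsg.sigma M, p ∣ orderOf g) :
    (∃ N : Subgroup G, IsCoatom N ∧ g ∈ Tl N) ∨
      ∃ K : Subgroup G, PP M K ∧ g ∈ CS (Zh K (Ks M K)) := by
  obtain ⟨x, x', hxz, hx'z, hg, hxσ, hx'σ⟩ := pi_parts (Cfsg.sigma M) g
  have hzM : zpowers g ≤ M := zpowers_le.mpr hgM
  have hx1 : x ≠ 1 := by
    rintro rfl
    rw [one_mul] at hg
    obtain ⟨p, hp, hpd⟩ := hσ
    rw [hg] at hpd
    exact hx'σ p hp.1 hpd hp
  have hxS : x ∈ Cfsg.sigmaCore M :=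
    Cfsg.Agent.Lib.Helper24.BG14.mem_sigmaCore_of_order hG hM (hzM hxz) hxσ
  have hcomm : Commute x' x := Cfsg.Agent.Lib.Helper24.BG14.commute_of_mem_zpowers hx'z hxz
  by_cases hx'1 : x' = 1
  · left
    refine ⟨M, hM, x, ⟨hxS, hx1⟩, 1, one_mem _, 1, ?_⟩
    rw [hg, hx'1]
    simp
  have hx'C : x' ∈ M ⊓ centralizer ({x} : Set G) :=
    mem_inf.mpr ⟨hzM hx'z, mem_centralizer_singleton_iff.mpr hcomm.eq⟩
  rcases T.h32 M hM x hxS hx1 x' hx'C hx'1 hx'σ with ⟨hκ, -⟩ | ⟨hτ, ⟨L0, hL0, hL0σ⟩, hCM, huniq⟩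
  · right
    obtain ⟨K0, hK0, -, hle⟩ := Cfsg.Agent.Lib.Helper66.exists_invariant_isPiHallOf_ge
      (π := Cfsg.kappa M) (A := ⊥) (G := M) (U := zpowers x') bot_le (by simp)
      (solvable_of_ne_top hG hM.1) (zpowers_le.mpr (hzM hx'z)) bot_le
      (by rw [Nat.card_zpowers]; exact hκ)
    have hx'K : x' ∈ K0 := hle (mem_zpowers x')
    have hK1 : K0 ≠ ⊥ := by
      rintro rfl
      exact hx'1 (mem_bot.mp hx'K)
    have hP : PP M K0 := ⟨hM, hK0, hK1⟩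
    refine ⟨K0, hP, 1, g, ?_, by simp⟩
    rw [(hP.zd hG h30 h31).mem_Zh_iff]
    refine ⟨x', hx'K, x, ?_, hx'1, hx1, by rw [hg, hcomm.eq]⟩
    show x ∈ Cfsg.sigmaCore M ⊓ centralizer (K0 : Set G)
    rw [← (h30 M hM K0 hK0 hK1).1 x' hx'K hx'1]
    exact mem_inf.mpr ⟨hxS, mem_centralizer_singleton_iff.mpr hcomm.symm.eq⟩
  · left
    have hz1 : zpowers x' ≠ ⊥ := by rwa [Ne, zpowers_eq_bot]
    obtain ⟨w, hw⟩ := h25 L0 hL0 (zpowers x') hz1 (by rw [Nat.card_zpowers]; exact hL0σ)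
    have hL : IsCoatom (cj w⁻¹ L0) := Cfsg.Agent.Lib.Helper24.BG14.isCoatom_cj hL0 _
    have hx'L : x' ∈ Cfsg.sigmaCore (cj w⁻¹ L0) := by
      rw [Cfsg.Agent.Lib.Helper24.BG14.sigmaCore_cj hG hL0, mem_cj, inv_inv]
      exact hw (conj_mem_cj (mem_zpowers x'))
    have hnot : ¬ centralizer ({x'} : Set G) ≤ cj w⁻¹ L0 := by
      intro hle
      have e := huniq _ hL hle
      have ho1 : orderOf x' ≠ 1 := by rwa [Ne, orderOf_eq_one_iff]
      obtain ⟨s, hs, hsd⟩ := Nat.exists_prime_and_dvd ho1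
      apply hx'σ s hs hsd
      rw [← e, Cfsg.Agent.Lib.Helper24.BG14.sigma_cj]
      exact hL0σ s hs hsd
    obtain ⟨N, hc⟩ := Cfsg.Agent.Lib.Helper24.BG14.exists_ctx hG T.h16 T.h17 T.h18 T.h78 T.h32 hL
      hx'L hx'1 hnot
    have hNM : M = N := hc.uniq M hM hCM
    refine ⟨cj w⁻¹ L0, hL, x', ⟨hx'L, hx'1⟩, x, ?_, 1, ?_⟩
    · rw [Cfsg.Agent.Lib.Helper24.BG14.supportR_of_ctx hG T.h17 hc, ← hNM]
      exact mem_inf.mpr ⟨hxS, mem_centralizer_singleton_iff.mpr hcomm.symm.eq⟩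
    · rw [hg, hcomm.eq]
      simp

end Cfsg.Agent.Lib.Helper60.BG14
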