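import Cfsg.Agent.Lib.Helper60.BG14Defs
import Cfsg.Agent.Lib.Helper60.BG147.C10

set_option autoImplicit false
set_option linter.unusedVariables false

/-! Ladder BG147, rung C11. -/

namespace Cfsg.Agent.Lib.Helper60.BG14

open Subgroup Cfsg.Agent.Lib.Helper30

universe u

variable {G : Type u} [Group G]

theorem c11_Tl_conj {N : Subgroup G} {g n : G} (h : n * g * n⁻¹ ∈ Tl N) : g ∈ Tl N := by
  obtain ⟨a, ha, r, hr, y, hy⟩ := h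
  refine ⟨a, ha, r, hr, n⁻¹ * y, ?_⟩
  calc g = n⁻¹ * (n * g * n⁻¹) * n := by group
    _ = n⁻¹ * (y * (a * r) * y⁻¹) * n := by rw [hy]
    _ = n⁻¹ * y * (a * r) * (n⁻¹ * y)⁻¹ := by group

theorem c11_CS_conj {X : Set G} {g n : G} (h : n * g * n⁻¹ ∈ CS X) : g ∈ CS X := by
  obtain ⟨y, z, hz, hy⟩ := h
  refine ⟨n⁻¹ * y, z, hz, ?_⟩
  calc g = n⁻¹ * (n * g * n⁻¹) * n := by group
    _ = n⁻¹ * (y * z * y⁻¹) * n := by rw [hy]
    _ = n⁻¹ * y * z * (n⁻¹ * y)⁻¹ := by group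

theorem cover [Finite G] (hG : Cfsg.IsMinSimpleOddOrder G) (T : TX G) (h78 : T1378 G)
    (h25 : T1425 G) (h30 : T1430 G) (h31 : T1431 G) {g : G} (hg : g ≠ 1) :
    (∃ N : Subgroup G, IsCoatom N ∧ g ∈ Tl N) ∨
      ∃ M K : Subgroup G, PP M K ∧ g ∈ CS (Zh K (Ks M K)) := by
  have ho1 : orderOf g ≠ 1 := by rwa [Ne, orderOf_eq_one_iff]
  obtain ⟨p, hp, hpd⟩ := Nat.exists_prime_and_dvd ho1
  obtain ⟨M0, hM0, hpM0⟩ := h78.1 p hp (hpd.trans (orderOf_dvd_natCard g))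
  obtain ⟨x1, hx1⟩ : ∃ x1, x1 = g ^ (orderOf g / p) := ⟨_, rfl⟩
  have hx1o : orderOf x1 = p := by
    rw [hx1]
    exact orderOf_pow_orderOf_div (orderOf_pos g).ne' hpd
  have hx11 : x1 ≠ 1 := by
    rintro rfl
    rw [orderOf_one] at hx1o
    exact hp.one_lt.ne hx1o
  have hz1 : zpowers x1 ≠ ⊥ := by rwa [Ne, zpowers_eq_bot]
  obtain ⟨w, hw⟩ := h25 M0 hM0 (zpowers x1) hz1 (by
    rw [Nat.card_zpowers, hx1o]
    intro q hq hqd
    rwa [(Nat.prime_dvd_prime_iff_eq hq hp).mp hqd])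
  obtain ⟨M, hMdef⟩ : ∃ M, M = cj w⁻¹ M0 := ⟨_, rfl⟩
  have hM : IsCoatom M := hMdef ▸ Cfsg.Agent.Lib.Helper24.BG14.isCoatom_cj hM0 _
  have hx1M : x1 ∈ Cfsg.sigmaCore M := by
    rw [hMdef, Cfsg.Agent.Lib.Helper24.BG14.sigmaCore_cj hG hM0, mem_cj, inv_inv]
    exact hw (conj_mem_cj (mem_zpowers x1))
  have hpM : p ∈ Cfsg.sigma M := by
    rw [hMdef, Cfsg.Agent.Lib.Helper24.BG14.sigma_cj]
    exact hpM0
  have hgC : g ∈ centralizer ({x1} : Set G) := by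
    rw [mem_centralizer_singleton_iff, hx1]
    exact ((Commute.refl g).pow_right _).eq
  have fin : ∀ {M' : Subgroup G}, IsCoatom M' → ∀ {g' : G}, g' ∈ M' →
      (∃ q ∈ Cfsg.sigma M', q ∣ orderOf g') →
      (∃ N : Subgroup G, IsCoatom N ∧ g' ∈ Tl N) ∨
        ∃ M K : Subgroup G, PP M K ∧ g' ∈ CS (Zh K (Ks M K)) := by
    intro M' hM' g' hg' hq
    rcases claim hG T h25 h30 h31 hM' hg' hq with h | ⟨K, hK, h⟩
    · exact Or.inl h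
    · exact Or.inr ⟨M', K, hK, h⟩
  by_cases hC : centralizer ({x1} : Set G) ≤ M
  · exact fin hM (hC hgC) ⟨p, hpM, hpd⟩
  obtain ⟨N, hc⟩ := Cfsg.Agent.Lib.Helper24.BG14.exists_ctx hG T.h16 T.h17 T.h18 T.h78 T.h32 hM
    hx1M hx11 hC
  have hgN : g ∈ N := hc.cent_le hgC
  by_cases hq : ∃ q ∈ Cfsg.sigma N, q ∣ orderOf g
  · exact fin hc.coatom hgN hq
  push Not at hq
  obtain ⟨n, hn, hle⟩ := Cfsg.Agent.Lib.Helper28.BG12.exists_cj_le_compl hG hc.coatom hc.compl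
    (X := zpowers g) (zpowers_le.mpr hgN) (by
      rw [Nat.card_zpowers]
      intro q _ hqd hqσ
      exact hq q hqσ hqd)
  have hngM : n * g * n⁻¹ ∈ M := (hle (conj_mem_cj (mem_zpowers g))).1
  have ho : orderOf (n * g * n⁻¹) = orderOf g := ((SemiconjBy.conj_mk n g).orderOf_eq).symm
  rcases fin hM hngM ⟨p, hpM, ho ▸ hpd⟩ with ⟨N', hN', h⟩ | ⟨M', K, hK, h⟩
  · exact Or.inl ⟨N', hN', c11_Tl_conj h⟩
  · exact Or.inr ⟨M', K, hK, c11_CS_conj h⟩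

end Cfsg.Agent.Lib.Helper60.BG14
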