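import Cfsg.Agent.Lib.Helper60.BG14Defs
import Cfsg.Agent.Lib.Helper60.BG147.A1
import Cfsg.Agent.Lib.Helper60.BG147.B1
import Cfsg.Agent.Lib.Helper28.BG16b
import Cfsg.Agent.Lib.Helper40.BG12a

set_option autoImplicit false
set_option linter.unusedVariables false

/-! Ladder BG147, rung C5 : the text of S1371. -/

namespace Cfsg.Agent.Lib.Helper60.BG14

open Subgroup Cfsg.Agent.Lib.Helper30

universe u

variable {G : Type u} [Group G]

/-- an element of `M` whose order involves no prime of `π` lies in a normal Hall `πᶜ`-subgroup. -/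
theorem c5_mem_of_hall [Finite G] {π : Set ℕ} {W M : Subgroup G}
    (hW : Cfsg.IsPiHallOf πᶜ W M) (hn : M ≤ normalizer (W : Set G)) {a : G} (ha : a ∈ M)
    (ho : ∀ r : ℕ, r.Prime → r ∣ orderOf a → r ∉ π) : a ∈ W := by
  have : (W.subgroupOf M).Normal := normal_subgroupOf_of_le_normalizer hn
  have h1 : (orderOf (⟨a, ha⟩ : M)).Coprime (W.subgroupOf M).index := by
    apply Nat.coprime_of_dvd
    intro r hr h1 h2
    rw [← Subgroup.orderOf_coe] at h1
    exact hW.2.2 r hr (ho r hr h1) h2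
  exact mem_subgroupOf.mp (Cfsg.Agent.Lib.Helper40.BG12.mem_of_normal_of_coprime h1)

theorem c5_conj_mem {W M : Subgroup G} (hn : M ≤ normalizer (W : Set G)) {m a : G} (hm : m ∈ M)
    (ha : a ∈ W) : m * a * m⁻¹ ∈ W :=
  (mem_normalizer_iff.mp (hn hm) a).mp ha

theorem S1371_of [Finite G] (hG : Cfsg.IsMinSimpleOddOrder G) (h30 : T1430 G) (h31 : T1431 G)
    (h52 : T1352 G) : T1371 G := by
  intro M hM K U hKU hK1
  set L := Cfsg.sigmaCore M ⊓ Subgroup.centralizer (K : Set G) with hL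
  have hz : ZD M K L := PP.zd hG h30 h31 ⟨hM, hKU.hall, hK1⟩
  set W := U ⊔ Cfsg.sigmaCore M with hWdef
  have hWn : M ≤ normalizer (W : Set G) := (h52 M hM K hKU.cyclic hKU.hall).2 U hKU
  have hWh : Cfsg.IsPiHallOf (Cfsg.kappa M)ᶜ W M :=
    Cfsg.Agent.Lib.Helper28.BG12.isPiHallOf_U_sup hG hM hKU
  have hσn : M ≤ normalizer (Cfsg.sigmaCore M : Set G) :=
    Cfsg.Agent.Lib.Helper28.BG12.le_normalizer_sigmaCore M
  have hKW : K ⊓ W = ⊥ := by
    apply disjoint_iff.1
    apply Subgroup.disjoint_of_coprime_natCard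
    apply Nat.coprime_of_dvd
    intro r hr h1 h2
    exact hWh.2.1 r hr h2 (hKU.hall.2.1 r hr h1)
  have hs : Group.IsSolvable M := solvable_of_ne_top hG hM.1
  have key : {a : G | ∃ m ∈ M, ∃ z ∈ ((↑(K ⊔ L) : Set G) \ ((K : Set G) ∪ ↑L)), a = m * z * m⁻¹} =
      Cfsg.sigmaA0 M K \ Cfsg.sigmaA M U := by
    ext a
    constructor
    · rintro ⟨m, hm, z, hzz, rfl⟩
      obtain ⟨x, hx, y, hy, hx1, hy1, rfl⟩ := hz.mem_Zh_iff.1 hzz
      obtain ⟨hxz, hyz⟩ := hz.a1_mem_zpowers hx hy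
      have hxyM : x * y ∈ M := M.mul_mem (hz.KM hx) (hz.LM hy)
      have hhat : m * (x * y) * m⁻¹ ∈ Cfsg.sigmaHat M := by
        refine ⟨M.mul_mem (M.mul_mem hm hxyM) (M.inv_mem hm), m * y * m⁻¹,
          c5_conj_mem hσn hm hy.1, ?_, ?_⟩
        · intro h
          apply hy1
          have : y = m⁻¹ * (m * y * m⁻¹) * m := by group
          rw [this, h]; group
        · have hc : x * y = y * x := hz.comm x hx y hy
          have : x * y * y = y * (x * y) := by rw [hc, mul_assoc, ← hc]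
          calc m * (x * y) * m⁻¹ * (m * y * m⁻¹) = m * (x * y * y) * m⁻¹ := by group
            _ = m * (y * (x * y)) * m⁻¹ := by rw [this]
            _ = m * y * m⁻¹ * (m * (x * y) * m⁻¹) := by group
      refine ⟨⟨hhat, ?_⟩, ?_⟩
      · rintro ⟨k, hk, hk1, m', hm', he⟩
        apply hy1
        have ho : orderOf (x * y) = orderOf k := by
          have h1 : orderOf (m * (x * y) * m⁻¹) = orderOf (x * y) := by
            rw [← MulAut.conj_apply]; exact MulEquiv.orderOf_eq _ _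
          have h2 : orderOf (m' * k * m'⁻¹) = orderOf k := by
            rw [← MulAut.conj_apply]; exact MulEquiv.orderOf_eq _ _
          rw [← h1, he, h2]
        have h3 : orderOf y ∣ Nat.card K := by
          have h4 : orderOf y ∣ orderOf (x * y) := orderOf_dvd_of_mem_zpowers hyz
          exact h4.trans (ho ▸ K.orderOf_dvd_natCard hk)
        have h5 : orderOf y ∣ Nat.card L := L.orderOf_dvd_natCard hy
        exact orderOf_eq_one_iff.mp (Nat.eq_one_of_dvd_coprimes hz.cop h3 h5)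
      · rintro ⟨-, haW⟩
        apply hx1
        have h1 : x * y ∈ W := by
          have := c5_conj_mem hWn (M.inv_mem hm) haW
          have e : m⁻¹ * (m * (x * y) * m⁻¹) * m⁻¹⁻¹ = x * y := by group
          rwa [e] at this
        have h2 : x ∈ W := (zpowers_le.mpr h1) hxz
        have h3 : x ∈ K ⊓ W := ⟨hx, h2⟩
        rw [hKW] at h3
        exact mem_bot.mp h3
    · rintro ⟨⟨hhat, hnc⟩, hnA⟩
      have haM : a ∈ M := hhat.1
      have haW : a ∉ W := fun h => hnA ⟨hhat, h⟩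
      have hex : ∃ r : ℕ, r.Prime ∧ r ∣ orderOf a ∧ r ∈ Cfsg.kappa M := by
        by_contra hcon
        push Not at hcon
        exact haW (c5_mem_of_hall hWh hWn haM hcon)
      obtain ⟨r, hr, hra, hrκ⟩ := hex
      set x₀ := a ^ (orderOf a / r) with hx₀
      have hx₀o : orderOf x₀ = r := orderOf_pow_orderOf_div (orderOf_pos a).ne' hra
      have hx₀M : x₀ ∈ M := M.pow_mem haM _
      obtain ⟨K', hK', -, hxK'⟩ := Cfsg.Agent.Lib.Helper66.exists_invariant_isPiHallOf_ge
        (π := Cfsg.kappa M) (A := ⊥) (G := M) (U := zpowers x₀) bot_le (by simp) hs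
        (zpowers_le.mpr hx₀M) bot_le (fun p hp hpd => by
          rw [Nat.card_zpowers, hx₀o] at hpd
          rw [(Nat.prime_dvd_prime_iff_eq hp hr).mp hpd]; exact hrκ)
      obtain ⟨m, hm, rfl⟩ := Cfsg.Agent.Lib.Helper66.isPiHallOf_exists_conj hs hKU.hall hK'
      have hx₀K : m⁻¹ * x₀ * m ∈ K := by
        have := hxK' (mem_zpowers x₀)
        rw [mem_cj] at this
        exact this
      set x := m⁻¹ * x₀ * m with hx
      set b := m⁻¹ * a * m with hb
      have hx1 : x ≠ 1 := by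
        intro h
        have h1 : x₀ = m * x * m⁻¹ := by rw [hx]; group
        rw [h] at h1
        have h2 : x₀ = 1 := by rw [h1]; group
        rw [h2, orderOf_one] at hx₀o
        exact hr.one_lt.ne hx₀o
      have hbM : b ∈ M := M.mul_mem (M.mul_mem (M.inv_mem hm) haM) hm
      have hbx : b ∈ centralizer ({x} : Set G) := by
        rw [mem_centralizer_singleton_iff]
        have hc : a * x₀ = x₀ * a := by
          rw [hx₀, ← pow_succ', ← pow_succ]
        calc b * x = m⁻¹ * (a * x₀) * m := by rw [hb, hx]; group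
          _ = m⁻¹ * (x₀ * a) * m := by rw [hc]
          _ = x * b := by rw [hb, hx]; group
      have hbZ : b ∈ K ⊔ L := hz.cent x hx₀K hx1 ⟨hbM, hbx⟩
      have hab : a = m * b * m⁻¹ := by rw [hb]; group
      refine ⟨m, hm, b, ⟨hbZ, ?_⟩, hab⟩
      rintro (hbK | hbL)
      · apply hnc
        refine ⟨b, hbK, ?_, m, hm, hab⟩
        rintro h1
        apply haW
        rw [hab, h1]
        simp
      · apply haW
        rw [hab]
        exact c5_conj_mem hWn hm (le_sup_right (a := U) hbL.1)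
  refine ⟨key, ?_⟩
  rw [← key]
  intro g hg d hd hgd
  exfalso
  apply hg
  obtain ⟨m, hm, z, hzz, rfl⟩ := hd
  obtain ⟨m', hm', z', hzz', he⟩ := hgd
  have h1 : (m'⁻¹ * g * m) * z * (m'⁻¹ * g * m)⁻¹ = z' := by
    have : z' = m'⁻¹ * (m' * z' * m'⁻¹) * m' := by group
    rw [this, ← he]; group
  have h2 : m'⁻¹ * g * m ∈ K ⊔ L := hz.mem_of_conj hzz (h1 ▸ hzz')
  have hgM : g ∈ M := by
    have h3 := hz.sup_le h2
    have : g = m' * (m'⁻¹ * g * m) * m⁻¹ := by group
    rw [this]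
    exact M.mul_mem (M.mul_mem hm' h3) (M.inv_mem hm)
  rw [mem_set_normalizer_iff]
  intro n
  constructor
  · rintro ⟨m₁, hm₁, z₁, hz₁, rfl⟩
    exact ⟨g * m₁, M.mul_mem hgM hm₁, z₁, hz₁, by group⟩
  · rintro ⟨m₁, hm₁, z₁, hz₁, he₁⟩
    refine ⟨g⁻¹ * m₁, M.mul_mem (M.inv_mem hgM) hm₁, z₁, hz₁, ?_⟩
    have : n = g⁻¹ * (g * n * g⁻¹) * g := by group
    rw [this, he₁]; group

end Cfsg.Agent.Lib.Helper60.BG14
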