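import Cfsg.Agent.Lib.Helper60.BG14Defs
import Cfsg.Agent.Lib.Helper28.BG16a

set_option autoImplicit false
set_option linter.unusedVariables false

/-! Ladder BG147, rung C9 : equivariance. -/

namespace Cfsg.Agent.Lib.Helper60.BG14

open Subgroup Cfsg.Agent.Lib.Helper30

universe u

variable {G : Type u} [Group G]

/-- conjugation as an injective hom `cj g M → M`. -/
theorem c9_pRankLE_cj {p k : ℕ} {M : Subgroup G} (g : G) (h : Cfsg.PRankLE p k M) :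
    Cfsg.PRankLE p k (cj g M) := by
  let f : ↥(cj g M) →* ↥M :=
    { toFun := fun x => ⟨g⁻¹ * x.1 * g, mem_cj.mp x.2⟩
      map_one' := by
        apply Subtype.ext
        simp
      map_mul' := by
        intro x y
        apply Subtype.ext
        simp only [Subgroup.coe_mul]
        group }
  have hf : Function.Injective f := by
    intro x y hxy
    have h1 : g⁻¹ * x.1 * g = g⁻¹ * y.1 * g := congrArg Subtype.val hxy
    apply Subtype.ext
    have h2 := congrArg (fun z => g * z * g⁻¹) h1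
    simpa [mul_assoc] using h2
  exact Cfsg.Agent.Lib.Helper40.BG12.pRankLE_of_injective f hf h

theorem c9_kappa_cj_le [Finite G] (hG : Cfsg.IsMinSimpleOddOrder G) {M : Subgroup G}
    (hM : IsCoatom M) (g : G) : Cfsg.kappa M ⊆ Cfsg.kappa (cj g M) := by
  intro p hp
  have hpp : Fact p.Prime := ⟨hp.1⟩
  have hr := Cfsg.Agent.Lib.Helper28.BG12.pRankLE_one_of_kappa hp
  obtain ⟨P⟩ : Nonempty (Sylow p M) := inferInstance
  obtain ⟨-, x, hxP, hx1, y, hy, hy1, hxy⟩ := hp.2.2.2 P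
  -- a power of x of order p
  have hxo : ∃ k, orderOf x = p ^ k := by
    obtain ⟨k, hk⟩ := (IsPGroup.iff_orderOf.mp P.2) ⟨x, hxP⟩
    exact ⟨k, by rw [← hk]; exact (Subgroup.orderOf_mk x hxP).symm⟩
  obtain ⟨k, hk⟩ := hxo
  have hk0 : k ≠ 0 := by
    rintro rfl
    rw [pow_zero, orderOf_eq_one_iff] at hk
    exact hx1 hk
  obtain ⟨j, rfl⟩ := Nat.exists_eq_succ_of_ne_zero hk0
  have hxo' : orderOf ((x : G) ^ (p ^ j)) = p := by
    have h1 : orderOf (x : G) = p ^ (j + 1) := by rw [Subgroup.orderOf_coe, hk]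
    rw [orderOf_pow' _ (pow_ne_zero _ hp.1.ne_zero), h1, Nat.gcd_eq_right (pow_dvd_pow p (Nat.le_succ j)),
      pow_succ, Nat.mul_div_cancel_left _ (pow_pos hp.1.pos j)]
  have hcomm : (x : G) ^ (p ^ j) * y = y * (x : G) ^ (p ^ j) :=
    (Commute.pow_left (show Commute (x : G) y from hxy) _).eq
  refine Cfsg.Agent.Lib.Helper28.BG12.mem_kappa_of hG (x := g * (x : G) ^ (p ^ j) * g⁻¹)
    (y := g * y * g⁻¹) ?_ (c9_pRankLE_cj g hr) (conj_mem_cj (M.pow_mem x.2 _)) ?_ ?_ ?_ ?_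
  · rw [Cfsg.Agent.Lib.Helper24.BG14.sigma_cj]
    exact hp.2.2.1
  · exact ((SemiconjBy.conj_mk g ((x : G) ^ (p ^ j))).orderOf_eq).symm.trans hxo'
  · rw [Cfsg.Agent.Lib.Helper24.BG14.sigmaCore_cj hG hM]
    exact conj_mem_cj hy
  · rwa [Ne, conj_eq_one_iff]
  · calc g * (x : G) ^ (p ^ j) * g⁻¹ * (g * y * g⁻¹) = g * ((x : G) ^ (p ^ j) * y) * g⁻¹ := by group
      _ = g * (y * (x : G) ^ (p ^ j)) * g⁻¹ := by rw [hcomm]
      _ = g * y * g⁻¹ * (g * (x : G) ^ (p ^ j) * g⁻¹) := by group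

theorem kappa_cj [Finite G] (hG : Cfsg.IsMinSimpleOddOrder G) {M : Subgroup G} (hM : IsCoatom M)
    (g : G) : Cfsg.kappa (cj g M) = Cfsg.kappa M := by
  apply Set.Subset.antisymm
  · have := c9_kappa_cj_le hG (Cfsg.Agent.Lib.Helper24.BG14.isCoatom_cj hM g) g⁻¹
    rwa [cj_inv_cj] at this
  · exact c9_kappa_cj_le hG hM g

theorem PP.cj [Finite G] (hG : Cfsg.IsMinSimpleOddOrder G) {H C : Subgroup G} (h : PP H C) (g : G) :
    PP (cj g H) (cj g C) := by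
  refine ⟨Cfsg.Agent.Lib.Helper24.BG14.isCoatom_cj h.coatom g, ?_, ?_⟩
  · rw [kappa_cj hG h.coatom]
    exact Cfsg.Agent.Lib.Helper66.isPiHallOf_cj h.hall g
  · intro e
    apply h.ne
    have h1 : Nat.card (Helper30.cj g C) = 1 := by rw [e, card_bot]
    rw [card_cj] at h1
    exact Subgroup.card_eq_one.mp h1

theorem Ks_cj [Finite G] (hG : Cfsg.IsMinSimpleOddOrder G) {H : Subgroup G} (hH : IsCoatom H)
    (C : Subgroup G) (g : G) : Ks (cj g H) (cj g C) = cj g (Ks H C) := by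
  show Cfsg.sigmaCore (cj g H) ⊓ centralizer ((cj g C : Subgroup G) : Set G) = _
  rw [Cfsg.Agent.Lib.Helper24.BG14.sigmaCore_cj hG hH, centralizer_cj, ← cj_inf]

theorem c9_mem_Zh_cj {K L : Subgroup G} {g z : G} :
    z ∈ Zh (cj g K) (cj g L) ↔ g⁻¹ * z * g ∈ Zh K L := by
  show (z ∈ cj g K ⊔ cj g L ∧ ¬ (z ∈ cj g K ∨ z ∈ cj g L)) ↔
    (g⁻¹ * z * g ∈ K ⊔ L ∧ ¬ (g⁻¹ * z * g ∈ K ∨ g⁻¹ * z * g ∈ L))
  rw [← cj_sup, mem_cj, mem_cj, mem_cj]

theorem CS_Zh_cj (K L : Subgroup G) (g : G) : CS (Zh (cj g K) (cj g L)) = CS (Zh K L) := by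
  ext a
  constructor
  · rintro ⟨w, z, hz, rfl⟩
    refine ⟨w * g, g⁻¹ * z * g, c9_mem_Zh_cj.mp hz, by group⟩
  · rintro ⟨w, z, hz, rfl⟩
    refine ⟨w * g⁻¹, g * z * g⁻¹, c9_mem_Zh_cj.mpr ?_, by group⟩
    have : g⁻¹ * (g * z * g⁻¹) * g = z := by group
    rwa [this]

theorem CS_Zh_comm (K L : Subgroup G) : CS (Zh L K) = CS (Zh K L) := by
  have : Zh L K = Zh K L := by
    show (↑(L ⊔ K) : Set G) \ ((L : Set G) ∪ ↑K) = (↑(K ⊔ L) : Set G) \ ((K : Set G) ∪ ↑L)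
    rw [sup_comm, Set.union_comm]
  rw [this]

theorem CS_Zh_of_PP [Finite G] (hG : Cfsg.IsMinSimpleOddOrder G) {M K K' : Subgroup G}
    (h : PP M K) (h' : PP M K') : CS (Zh K' (Ks M K')) = CS (Zh K (Ks M K)) := by
  have hs : Group.IsSolvable M := hG.2.2.2 M h.coatom.1
  obtain ⟨m, hm, rfl⟩ := Cfsg.Agent.Lib.Helper66.isPiHallOf_exists_conj hs h.hall h'.hall
  have e : Ks M (cj m K) = cj m (Ks M K) := by
    have := Ks_cj hG h.coatom K m
    rwa [cj_eq_of_mem hm] at this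
  rw [e, CS_Zh_cj]

theorem CS_Zh_of_conj [Finite G] (hG : Cfsg.IsMinSimpleOddOrder G) {M K M' K' : Subgroup G}
    (h : PP M K) (h' : PP M' K') (g : G) (hg : M' = cj g M) :
    CS (Zh K' (Ks M' K')) = CS (Zh K (Ks M K)) := by
  subst hg
  rw [CS_Zh_of_PP hG (h.cj hG g) h', Ks_cj hG h.coatom, CS_Zh_cj]

end Cfsg.Agent.Lib.Helper60.BG14
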