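import Cfsg.Agent.Lib.Helper60.BG147.Base
import Cfsg.Agent.Lib.Helper60.BG147.B6
import Cfsg.Agent.Lib.Helper60.BG147.B7
import Cfsg.Agent.Lib.Helper60.BG147.B10
import Cfsg.Agent.Lib.Helper60.BG147.C8
import Cfsg.Agent.Lib.Helper60.BG147.C9
import Cfsg.Agent.Lib.Helper60.BG147.C11

/-!
B-G: the partition of `G` (statement S1379) from the rungs of the ladder BG147.
-/

set_option autoImplicit false

namespace Cfsg.Agent.Lib.Helper60.BG14

open Subgroup Cfsg.Agent.Lib.Helper30 Cfsg.Agent.Lib.Helper28.BG12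

universe u

variable {G : Type u} [Group G] [Finite G]

theorem PP.kappa_nonempty {M K : Subgroup G} (h : PP M K) : (Cfsg.kappa M).Nonempty := by
  have h1 : Nat.card K ≠ 1 := fun h1 => h.ne (K.eq_bot_of_card_eq h1)
  obtain ⟨p, hp, hpd⟩ := Nat.exists_prime_and_dvd h1
  exact ⟨p, h.hall.2.1 p hp hpd⟩

/-- S1379. -/
theorem S1379_of (hG : Cfsg.IsMinSimpleOddOrder G) (T : TX G) (h78 : T1378 G) (h25 : T1425 G)
    (h29 : T1429 G) (h30 : T1430 G) (h31 : T1431 G) (h77 : T1377 G) : T1379 G := by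
  refine ⟨fun M N hM hN hn => tilde_disjoint hG T hM hN hn, ?_, ?_⟩
  · intro hk g hg
    rcases cover hG T h78 h25 h30 h31 hg with h | ⟨M, K, hP, -⟩
    · exact h
    · obtain ⟨p, hp⟩ := hP.kappa_nonempty
      rw [hk M hP.coatom] at hp
      exact absurd hp (Set.notMem_empty p)
  · intro M K U hM hKU hK1
    have hP := pp_of_decomp hM hKU hK1
    obtain ⟨Ms, hA, -, -, -, hall⟩ := main hG T h29 h30 h31 h77 hP
    refine ⟨fun g hg => ?_, fun N hN y z hz => ?_⟩
    · rcases cover hG T h78 h25 h30 h31 hg with h | ⟨M', K', hP', hg'⟩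
      · exact Or.inl h
      · right
        obtain ⟨u, hu | hu⟩ := conj_of_kappa hG T h30 h31 (att_self hP) hA hP'.coatom
          hP'.kappa_nonempty
        · rw [CS_Zh_of_conj hG hP hP' u hu] at hg'
          exact hg'
        · rw [CS_Zh_of_conj hG hA.pp hP' u hu, ← hA.A_eq, CS_Zh_comm] at hg'
          exact hg'
    · refine Zo_not_tilde hG T h30 h31 (att_self hP) hN ⟨hz.1, fun H C A hAtt hzA => ?_⟩ y
      rcases hall H C A hAtt with ⟨-, -, rfl⟩ | ⟨-, -, rfl⟩
      · exact hz.2 (Or.inr hzA)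
      · exact hz.2 (Or.inl hzA)

end Cfsg.Agent.Lib.Helper60.BG14
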